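import Groth.Prelude.Def_AlgGrp

/-! # Point calculus for actions of group schemes -/

universe u

open CategoryTheory MonoidalCategory CartesianMonoidalCategory MonObj AlgebraicGeometry

namespace Groth.Agent.GrpAct

variable {S : Scheme.{u}} {G X : Over S} [GrpObj G] (a : AlgGrp.Action G X) {T : Over S}

lemma one_smul (x : T ⟶ X) : lift (toUnit T ≫ η[G]) x ≫ a.act = x := by
  rw [show lift (toUnit T ≫ η[G]) x = lift (toUnit T) x ≫ (η[G] ▷ X) from by simp,
    Category.assoc, a.one_act]
  simp [leftUnitor_hom]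

lemma one_smul' (x : T ⟶ X) : lift (1 : T ⟶ G) x ≫ a.act = x := one_smul a x

lemma mul_smul (g h : T ⟶ G) (x : T ⟶ X) :
    lift (g * h) x ≫ a.act = lift g (lift h x ≫ a.act) ≫ a.act := by
  rw [Hom.mul_def, show lift (lift g h ≫ μ[G]) x = lift (lift g h) x ≫ (μ[G] ▷ X) from by simp,
    Category.assoc, a.mul_act, ← Category.assoc, ← Category.assoc, lift_lift_associator_hom,
    lift_whiskerLeft]

lemma comp_smul {T' : Over S} (t : T' ⟶ T) (g : T ⟶ G) (x : T ⟶ X) :
    t ≫ lift g x ≫ a.act = lift (t ≫ g) (t ≫ x) ≫ a.act := by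
  rw [← Category.assoc, comp_lift]

/-- the freeness condition says that the graph is a monomorphism -/
theorem mono_graph_iff :
    (∀ (T : Over S) (g : T ⟶ G) (x : T ⟶ X), lift g x ≫ a.act = x → g = toUnit T ≫ η[G]) ↔
      Mono (lift a.act (snd G X)) := by
  constructor
  · refine fun hfree ↦ ⟨fun {T} p q e ↦ ?_⟩
    have h2 : p ≫ snd G X = q ≫ snd G X := by
      simpa using congr($e ≫ snd X X)
    have h1 : p ≫ a.act = q ≫ a.act := by
      simpa using congr($e ≫ fst X X)
    rw [← lift_comp_fst_snd p, ← lift_comp_fst_snd q, h2] at h1 ⊢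
    set x := q ≫ snd G X
    set g := p ≫ fst G X
    set g' := q ≫ fst G X
    have h : lift (g'⁻¹ * g) x ≫ a.act = x := by
      rw [mul_smul, h1, ← mul_smul, inv_mul_cancel, one_smul']
    have := hfree T _ x h
    rw [← Hom.one_def] at this
    rw [inv_mul_eq_one.mp this]
  · intro hm T g x h
    have e : lift g x = lift (toUnit T ≫ η[G]) x := by
      rw [← cancel_mono (lift a.act (snd G X))]
      simp [h, one_smul]
    simpa using congr($e ≫ fst G X)

end Groth.Agent.GrpAct
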