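import Groth.Agent.GrpAct.OrbitDim
import Groth.Agent.GrpBasic.Open
import Groth.Agent.GrpField.FlatPoint
import Groth.Agent.SmoothRed.Scheme
import Groth.Agent.GenFree.Scheme
import Groth.Agent.FppfSource.Scheme
import Mathlib.AlgebraicGeometry.Geometrically.Reduced

/-!
# Flatness of orbit maps
-/

universe u

open CategoryTheory CategoryTheory.Limits MonoidalCategory CartesianMonoidalCategory MonObj AlgebraicGeometry TopologicalSpace
open Groth.Agent.GrpField

noncomputable section

namespace Groth.Agent.GrpAct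

variable {S : Scheme.{u}} {G X : Over S} [GrpObj G] (a : AlgGrp.Action G X)

/-- The shear of an action. -/
def actShear : G ⊗ X ≅ G ⊗ X where
  hom := lift (fst G X) a.act
  inv := lift (fst G X) (lift (fst G X)⁻¹ (snd G X) ≫ a.act)
  hom_inv_id := by
    apply CartesianMonoidalCategory.hom_ext
    · simp
    · rw [Category.assoc, lift_snd, comp_smul, GrpObj.comp_inv, lift_fst, lift_snd, Category.id_comp]
      have h : lift (fst G X)⁻¹ (lift (fst G X) (snd G X) ≫ a.act) ≫ a.act = snd G X := by
        rw [← mul_smul, inv_mul_cancel, one_smul']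
      rwa [lift_fst_snd, Category.id_comp] at h
  inv_hom_id := by
    apply CartesianMonoidalCategory.hom_ext
    · simp
    · rw [Category.assoc, lift_snd, Category.id_comp]
      conv_lhs => rw [show a.act = lift (fst G X) (snd G X) ≫ a.act by rw [lift_fst_snd, Category.id_comp]]
      rw [comp_smul, lift_fst, lift_snd, lift_fst_snd, Category.id_comp, ← mul_smul, mul_inv_cancel,
        one_smul']

/-- The action of a flat group is flat. -/
theorem flat_act [Flat G.hom] : Flat a.act.left := by
  have e : a.act = (actShear a).hom ≫ snd G X := by simp [actShear]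
  rw [e, Over.comp_left]
  have : IsIso (actShear a).hom.left := ((Over.forget S).mapIso (actShear a)).isIso_hom
  have : Flat (snd G X).left := MorphismProperty.pullback_snd G.hom X.hom ‹_›
  infer_instance

/-- Multiplication of a flat group is flat. -/
theorem flat_mul [Flat G.hom] : Flat μ[G].left := by
  rw [Groth.Agent.GrpBasic.mul_left_eq]
  have : Flat (fst G G).left := MorphismProperty.pullback_fst G.hom G.hom ‹_›
  infer_instance

omit [GrpObj G] in
/-- Base change of a flat map along `G`. -/
theorem flat_lift_snd {V : Over S} (m : V ⟶ X) [Flat m.left] :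
    Flat (lift (snd V G) (fst V G ≫ m)).left := by
  have h1 : (lift (snd V G) (fst V G ≫ m)).left =
      (pullbackSymmetry V.hom G.hom).hom ≫ pullback.map G.hom V.hom G.hom X.hom (𝟙 _) m.left (𝟙 _)
        (by simp) (by simp) := by
    apply pullback.hom_ext
    · rw [Category.assoc, pullback.lift_fst, Category.comp_id, pullbackSymmetry_hom_comp_fst]
      exact congrArg (fun z => z.left) (lift_fst (snd V G) (fst V G ≫ m))
    · rw [Category.assoc, pullback.lift_snd, ← Category.assoc, pullbackSymmetry_hom_comp_snd]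
      exact congrArg (fun z => z.left) (lift_snd (snd V G) (fst V G ≫ m))
  rw [h1]
  have : Flat (pullback.map G.hom V.hom G.hom X.hom (𝟙 _) m.left (𝟙 _) (by simp) (by simp)) :=
    MorphismProperty.pullback_map (P := @Flat) inferInstance ‹_› (by simp) (by simp)
  infer_instance

variable (x : 𝟙_ (Over S) ⟶ X)

/-- An orbit map flat at one point is flat. -/
theorem flat_orbitMap [PointBase S] [Subsingleton S] [Flat G.hom] {g : G.left}
    (h : ((a.orbitMap x).left.stalkMap g).hom.Flat) : Flat (a.orbitMap x).left := by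
  let f := a.orbitMap x
  let V : Over S := Over.mk (G.left.fromSpecStalk g ≫ G.hom)
  let j : V ⟶ G := Over.homMk (G.left.fromSpecStalk g)
  have hj : Flat j.left := GrpField.flat_fromSpecStalk g
  have : Flat (j ≫ f).left := by
    rw [Over.comp_left]
    change Flat (G.left.fromSpecStalk g ≫ f.left)
    rw [← Scheme.SpecMap_stalkMap_fromSpecStalk]
    have : Flat (Spec.map (f.left.stalkMap g)) := Flat.SpecMap_iff.2 h
    have := GrpField.flat_fromSpecStalk (f.left g)
    infer_instance
  let Φ : V ⊗ G ⟶ G := snd V G * (fst V G ≫ j)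
  have : Flat Φ.left := by
    rw [show Φ = lift (snd V G) (fst V G ≫ j) ≫ μ[G] from Hom.mul_def _ _, Over.comp_left]
    have := flat_mul (G := G)
    have := flat_lift_snd (G := G) j
    infer_instance
  have : Flat (Φ ≫ f).left := by
    rw [show Φ ≫ f = lift (snd V G) (fst V G ≫ j ≫ f) ≫ a.act by
      simp only [Φ, f, comp_orbitMap, mul_smul, comp_smul, comp_toUnit_assoc], Over.comp_left]
    have := flat_act a
    have := flat_lift_snd (G := G) (j ≫ f)
    infer_instance
  have : Surjective Φ.left := ⟨fun g' => by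
    obtain ⟨T, _, p, q, hp, hq⟩ :=
      exists_pt₂ (X := V) (Y := G) (IsLocalRing.closedPoint (G.left.presheaf.stalk g) : Spec (G.left.presheaf.stalk g)) g'
    obtain ⟨t⟩ := IsPt.nonempty T
    refine ⟨(lift p (q * (p ≫ j)⁻¹)).left t, ?_⟩
    rw [← Scheme.Hom.comp_apply, ← Over.comp_left,
      show lift p (q * (p ≫ j)⁻¹) ≫ Φ = q by simp [Φ, MonObj.comp_mul, mul_assoc], hq]⟩
  rw [Over.comp_left] at *
  exact GrpdLib.flat_of_flat_comp Φ.left f.left

section Reduced

variable {k : Type u} [Field k] {G X O : Over (Spec (CommRingCat.of k))} [GrpObj G]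
  (a : AlgGrp.Action G X) (x : 𝟙_ (Over (Spec (CommRingCat.of k))) ⟶ X)

omit [GrpObj G] in
theorem geometricallyReduced_of_smooth [Smooth G.hom] : GeometricallyReduced G.hom := by
  refine ⟨fun L _ y Z p q h => ?_⟩
  have : Smooth q := MorphismProperty.of_isPullback h ‹_›
  exact Groth.Agent.SmoothRed.isReduced_of_smooth_scheme (R := CommRingCat.of L) q

/-- Flatness of a restriction gives flatness of the stalk maps. -/
theorem flat_stalkMap_of_restrict {Z W : Scheme.{u}} (f : Z ⟶ W) (U : W.Opens) [Flat (f ∣_ U)] (z : Z)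
    (hz : f z ∈ U) : (f.stalkMap z).hom.Flat :=
  (RingHom.Flat.respectsIso.arrow_mk_iso_iff (morphismRestrictStalkMap f U ⟨z, hz⟩)).1
    (Flat.stalkMap (f ∣_ U) ⟨z, hz⟩)

/-- A map from a reduced scheme with image in an immersed subscheme factors. -/
theorem exists_factor {Z Y W : Scheme.{u}} (i : W ⟶ Y) [IsImmersion i] [IsReduced Z] (f : Z ⟶ Y)
    (h : Set.range f ⊆ Set.range i) : ∃ g : Z ⟶ W, g ≫ i = f := by
  let U := i.coborderRange
  have hU : Set.range f ⊆ Set.range U.ι := by
    rw [Scheme.Opens.range_ι]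
    refine h.trans ?_
    rintro _ ⟨w, rfl⟩
    rw [← i.liftCoborder_ι, Scheme.Hom.comp_apply]
    exact (i.liftCoborder w).2
  let f' := IsOpenImmersion.lift U.ι f hU
  let c := i.liftCoborder
  have hr : Set.range f' ⊆ Set.range c := by
    rintro _ ⟨z, rfl⟩
    obtain ⟨w, hw⟩ := h ⟨z, rfl⟩
    refine ⟨w, U.ι.isOpenEmbedding.injective ?_⟩
    rw [← Scheme.Hom.comp_apply, ← Scheme.Hom.comp_apply, i.liftCoborder_ι, IsOpenImmersion.lift_fac]
    exact hw
  have : Surjective (pullback.fst f' c) := ⟨fun z => by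
    obtain ⟨w, hw⟩ := hr ⟨z, rfl⟩
    obtain ⟨v, hv, -⟩ := Scheme.Pullback.exists_preimage_pullback (f := f') (g := c) z w hw.symm
    exact ⟨v, hv⟩⟩
  have : IsIso (pullback.fst f' c) := isIso_of_isClosedImmersion_of_surjective _
  refine ⟨inv (pullback.fst f' c) ≫ pullback.snd f' c, ?_⟩
  rw [← i.liftCoborder_ι, Category.assoc]
  change inv (pullback.fst f' c) ≫ pullback.snd f' c ≫ c ≫ U.ι = f
  rw [← pullback.condition_assoc, IsIso.inv_hom_id_assoc, IsOpenImmersion.lift_fac]

variable [Smooth G.hom] [QuasiCompact G.hom] [LocallyOfFiniteType X.hom]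
  (i : O ⟶ X) [IsImmersion i.left] [IsReduced O.left]

/-- An action and a section restricted to a reduced orbit. -/
theorem exists_action (hO : Set.range i.left = orbit a x) :
    ∃ (b : AlgGrp.Action G O) (o : 𝟙_ (Over (Spec (CommRingCat.of k))) ⟶ O),
      b.act ≫ i = (G ◁ i) ≫ a.act ∧ o ≫ i = x ∧ b.orbitMap o ≫ i = a.orbitMap x := by
  have : Subsingleton (Spec (CommRingCat.of k)) := inferInstanceAs (Subsingleton (PrimeSpectrum k))
  have hlft : LocallyOfFiniteType (i.left ≫ X.hom) := inferInstance
  have : LocallyOfFiniteType O.hom := by rw [← Over.w i]; exact hlft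
  have : IsLocallyNoetherian O.left := LocallyOfFiniteType.isLocallyNoetherian O.hom
  have := geometricallyReduced_of_smooth (G := G)
  have : IsReduced (G ⊗ O).left := inferInstanceAs (IsReduced (pullback G.hom O.hom))
  have : Mono i := (Over.forget _).mono_of_mono_map (inferInstanceAs (Mono i.left))
  have hrange : Set.range ((G ◁ i) ≫ a.act).left ⊆ Set.range i.left := by
    rintro _ ⟨w, rfl⟩
    obtain ⟨g₀, hg₀⟩ : i.left ((snd G O).left w) ∈ orbit a x := hO ▸ ⟨_, rfl⟩
    obtain ⟨T, hT, p, hp⟩ := exists_pt w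
    obtain ⟨t⟩ := IsPt.nonempty T
    let v := (lift (p ≫ snd G O ≫ i) (𝟙 T)).left t
    have hv : (fst X T).left v = i.left ((snd G O).left w) := by
      rw [← Scheme.Hom.comp_apply, ← Over.comp_left, lift_fst, Over.comp_left, Over.comp_left,
        Scheme.Hom.comp_apply, Scheme.Hom.comp_apply, hp]
    rw [hO, ← hp t, ← Scheme.Hom.comp_apply, ← Over.comp_left,
      show p ≫ (G ◁ i) ≫ a.act = lift (p ≫ snd G O ≫ i) (𝟙 T) ≫ (actT a (p ≫ fst G O)).hom ≫ fst X T by
        simp only [actT, lift_fst]
        rw [comp_smul, lift_fst, lift_snd_assoc, Category.id_comp, ← Category.assoc]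
        congr 1
        apply CartesianMonoidalCategory.hom_ext <;> simp,
      Over.comp_left, Over.comp_left, Scheme.Hom.comp_apply, Scheme.Hom.comp_apply]
    refine (actT_mem a x (p ≫ fst G O) v).1.2 ?_
    rw [hv]
    exact ⟨g₀, hg₀⟩
  obtain ⟨β, hβ⟩ := exists_factor i.left ((G ◁ i) ≫ a.act).left hrange
  let act : G ⊗ O ⟶ O := Over.homMk β (by rw [← Over.w i, ← Category.assoc, hβ]; exact Over.w _)
  have hact : act ≫ i = (G ◁ i) ≫ a.act := Over.OverMorphism.ext hβ
  let b : AlgGrp.Action G O :=
    { act := act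
      one_act := by
        rw [← cancel_mono i, Category.assoc, hact, ← whisker_exchange_assoc, a.one_act,
          leftUnitor_naturality]
      mul_act := by
        rw [← cancel_mono i, Category.assoc, hact, ← whisker_exchange_assoc, a.mul_act,
          Category.assoc, Category.assoc, hact, associator_naturality_right_assoc,
          ← MonoidalCategory.whiskerLeft_comp_assoc, ← hact, MonoidalCategory.whiskerLeft_comp_assoc, hact] }
  have hx : Set.range x.left ⊆ Set.range i.left := by
    rintro _ ⟨t, rfl⟩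
    rw [hO]
    refine ⟨(η[G]).left t, ?_⟩
    rw [← Scheme.Hom.comp_apply, ← Over.comp_left, comp_orbitMap,
      show toUnit (𝟙_ (Over (Spec (CommRingCat.of k)))) = 𝟙 _ from toUnit_unique _ _, Category.id_comp,
      ← Category.id_comp η[G],
      show (𝟙 _ : 𝟙_ (Over (Spec (CommRingCat.of k))) ⟶ _) = toUnit _ from toUnit_unique _ _, one_smul]
  have : IsReduced (𝟙_ (Over (Spec (CommRingCat.of k)))).left :=
    inferInstanceAs (IsReduced (Spec (CommRingCat.of k)))
  obtain ⟨o, ho⟩ := exists_factor i.left x.left hx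
  let o' : 𝟙_ (Over (Spec (CommRingCat.of k))) ⟶ O :=
    Over.homMk o (by rw [← Over.w i, ← Category.assoc, ho]; exact Over.w _)
  have ho' : o' ≫ i = x := Over.OverMorphism.ext ho
  refine ⟨b, o', hact, ho', ?_⟩
  rw [AlgGrp.Action.orbitMap, AlgGrp.Action.orbitMap, Category.assoc, hact, lift_whiskerLeft_assoc,
    Category.assoc, ho']

/-- The orbit map onto the reduced orbit is faithfully flat. -/
theorem exists_flat_orbitMap [QuasiSeparatedSpace X.left] (hO : Set.range i.left = orbit a x) :
    ∃ φ : G ⟶ O, φ ≫ i = a.orbitMap x ∧ Flat φ.left ∧ Surjective φ.left ∧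
      LocallyOfFinitePresentation φ.left ∧ QuasiCompact φ.left := by
  have : Subsingleton (Spec (CommRingCat.of k)) := inferInstanceAs (Subsingleton (PrimeSpectrum k))
  obtain ⟨b, o, -, -, hφ⟩ := exists_action a x i hO
  set φ := b.orbitMap o with hφdef
  have hφl : φ.left ≫ i.left = (a.orbitMap x).left := by rw [← Over.comp_left, hφ]
  have hs : Surjective φ.left := ⟨fun w => by
    obtain ⟨g, hg⟩ : i.left w ∈ orbit a x := hO ▸ ⟨w, rfl⟩
    refine ⟨g, i.left.isEmbedding.injective ?_⟩
    rw [← Scheme.Hom.comp_apply, hφl]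
    exact hg⟩
  have hlftO : LocallyOfFiniteType (i.left ≫ X.hom) := inferInstance
  have : LocallyOfFiniteType O.hom := by rw [← Over.w i]; exact hlftO
  have : IsLocallyNoetherian O.left := LocallyOfFiniteType.isLocallyNoetherian O.hom
  have : LocallyOfFiniteType (φ.left ≫ O.hom) := by rw [Over.w]; infer_instance
  have : LocallyOfFiniteType φ.left := locallyOfFiniteType_of_comp _ O.hom
  have : QuasiCompact (φ.left ≫ i.left) := by rw [hφl]; exact (orbitMap_props a x).1
  have : QuasiCompact φ.left := QuasiCompact.of_comp φ.left i.left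
  obtain ⟨U, hU, hUflat, hUfp⟩ := GenFree.exists_dense_flat_fp φ.left
  have : Nonempty O.left := ⟨φ.left (η[G].left (IsLocalRing.closedPoint k))⟩
  obtain ⟨u, hu⟩ : (U : Set O.left).Nonempty := hU.nonempty
  obtain ⟨g, hg⟩ := hs.surj u
  have hflat : (φ.left.stalkMap g).hom.Flat := flat_stalkMap_of_restrict φ.left U g (hg ▸ hu)
  exact ⟨φ, hφ, flat_orbitMap b o hflat, hs, inferInstance, inferInstance⟩

/-- Reduced orbits are smooth. -/
theorem smooth_orbit [QuasiSeparatedSpace X.left] (hO : Set.range i.left = orbit a x) : Smooth O.hom := by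
  obtain ⟨φ, -, hf, hs, hfp, -⟩ := exists_flat_orbitMap a x i hO
  have : Smooth (φ.left ≫ O.hom) := by rw [Over.w]; infer_instance
  exact Groth.Agent.FppfSource.smooth φ.left O.hom

end Reduced

end Groth.Agent.GrpAct
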