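import Groth.Agent.GrpAct.Basic
import Groth.Agent.QuotShLib.Fppf
import Mathlib.AlgebraicGeometry.Morphisms.FlatDescent

/-! # The kernel of the action on a homogeneous space -/

universe u

open CategoryTheory CategoryTheory.Limits MonoidalCategory CartesianMonoidalCategory MonObj AlgebraicGeometry

namespace Groth.Agent.GrpAct

variable {S : Scheme.{u}} {G H Q : Over S} [GrpObj G] [GrpObj H] (i : H ⟶ G) [IsMonHom i]
  (a : AlgGrp.Action G Q) (o : 𝟙_ (Over S) ⟶ Q)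

lemma orbit_comp {T : Over S} (g : T ⟶ G) :
    g ≫ a.orbitMap o = lift g (toUnit T ≫ o) ≫ a.act := by
  rw [AlgGrp.Action.orbitMap, ← Category.assoc, comp_lift, Category.comp_id, ← Category.assoc,
    toUnit_unique (g ≫ toUnit G) (toUnit T)]

variable (hpb : IsPullback (fst G H) ((G ◁ i) ≫ μ[G]) (a.orbitMap o) (a.orbitMap o))

include hpb in
lemma mem_iff {T : Over S} (g : T ⟶ G) :
    (∃ h : T ⟶ H, h ≫ i = g) ↔ lift g (toUnit T ≫ o) ≫ a.act = toUnit T ≫ o := by
  have h1 : (1 : T ⟶ G) ≫ a.orbitMap o = toUnit T ≫ o := by rw [orbit_comp, one_smul']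
  rw [← orbit_comp, ← h1]
  constructor
  · rintro ⟨h, rfl⟩
    have := congrArg (lift (1 : T ⟶ G) h ≫ ·) hpb.w
    simp only [lift_fst_assoc, lift_whiskerLeft_assoc, Category.assoc] at this
    rw [← Category.assoc (lift 1 (h ≫ i)), ← Hom.mul_def, _root_.one_mul] at this
    rw [Category.assoc]
    exact (this.trans (Category.assoc _ _ _)).symm
  · intro e
    refine ⟨hpb.lift 1 g e.symm ≫ snd G H, ?_⟩
    have h2 : lift (1 : T ⟶ G) ((hpb.lift 1 g e.symm ≫ snd G H) ≫ i) ≫ μ[G] = g := by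
      conv_rhs => rw [← hpb.lift_snd 1 g e.symm]
      rw [← Category.assoc (hpb.lift 1 g e.symm)]
      congr 1
      apply CartesianMonoidalCategory.hom_ext
      · simp [hpb.lift_fst]
      · simp
    rw [← Hom.mul_def, _root_.one_mul] at h2
    exact h2

/-- points are locally translates of `o` -/
def HasLocalLifts : Prop :=
  ∀ (T : Over S) (x : T ⟶ Q), ∃ (T' : Over S) (t : T' ⟶ T) (g : T' ⟶ G),
    Epi t ∧ g ≫ a.orbitMap o = t ≫ x

theorem hasLocalLifts_of_cover {Z : Scheme.{u}} (c : Z ⟶ Q.left) [Flat c] [Surjective c]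
    [LocallyOfFinitePresentation c] (l : Z ⟶ G.left) (hl : l ≫ (a.orbitMap o).left = c) :
    HasLocalLifts a o := by
  intro T x
  let T' : Over S := Over.mk (pullback.fst x.left c ≫ T.hom)
  let t : T' ⟶ T := Over.homMk (pullback.fst x.left c) rfl
  have hl' : (pullback.snd x.left c ≫ l) ≫ (a.orbitMap o).left = pullback.fst x.left c ≫ x.left := by
    rw [Category.assoc, hl, pullback.condition]
  let g : T' ⟶ G := Over.homMk (pullback.snd x.left c ≫ l) (by
    change (pullback.snd x.left c ≫ l) ≫ G.hom = pullback.fst x.left c ≫ T.hom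
    rw [← Over.w (a.orbitMap o), ← Over.w x, ← Category.assoc (pullback.snd x.left c ≫ l), hl', Category.assoc])
  exact ⟨T', t, g, ⟨fun u v h ↦ Over.OverMorphism.ext
    ((cancel_epi (pullback.fst x.left c)).mp congr(($h).left))⟩, Over.OverMorphism.ext hl'⟩

variable {N : Over S} [GrpObj N] (n : N ⟶ G) [IsMonHom n]
  (hN : ∀ (T : Over S) (g : T ⟶ G), (∃ m : T ⟶ N, m ≫ n = g) ↔
    ∀ (T' : Over S) (s : T' ⟶ T) (x : T' ⟶ Q), lift (s ≫ g) x ≫ a.act = x)

omit [IsMonHom n] in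
include hN in
theorem kernel_isNormal : AlgGrp.IsNormalHom n := by
  intro T g m
  have key : ∀ (T' : Over S) (s : T' ⟶ T) (x : T' ⟶ Q),
      lift (s ≫ (g * (m ≫ n) * g⁻¹)) x ≫ a.act = x := by
    intro T' s x
    have hm := (hN T (m ≫ n)).mp ⟨m, rfl⟩ T' s (lift (s ≫ g⁻¹) x ≫ a.act)
    rw [comp_mul, comp_mul, mul_smul, mul_smul, hm, ← mul_smul, ← comp_mul, mul_inv_cancel,
      MonObj.comp_one, one_smul']
  obtain ⟨m', hm'⟩ := (hN T _).mpr key
  exact ⟨m', hm'.symm⟩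

include hpb hN in
theorem kernel_le : ∃ f : N ⟶ H, f ≫ i = n := by
  rw [mem_iff i a o hpb]
  have := (hN N n).mp ⟨𝟙 N, Category.id_comp n⟩ N (𝟙 N) (toUnit N ≫ o)
  rwa [Category.id_comp] at this

include hpb hN in
theorem kernel_largest (hloc : HasLocalLifts a o) {N' : Over S} [GrpObj N'] (n' : N' ⟶ G)
    [IsMonHom n'] (hn' : AlgGrp.IsNormalHom n') (hle : ∃ f : N' ⟶ H, f ≫ i = n') :
    ∃ f' : N' ⟶ N, f' ≫ n = n' := by
  refine (hN N' n').mpr fun T s x ↦ ?_
  obtain ⟨T', t, g, ht, hg⟩ := hloc T x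
  rw [← cancel_epi t, comp_smul, ← hg, orbit_comp, ← mul_smul, ← Category.assoc t s n']
  obtain ⟨m, hm⟩ := hn' T' g⁻¹ (t ≫ s)
  rw [inv_inv] at hm
  obtain ⟨f, hf⟩ := hle
  have h0 := (mem_iff i a o hpb (m ≫ n')).mp ⟨m ≫ f, by rw [Category.assoc, hf]⟩
  rw [show ((t ≫ s) ≫ n') * g = g * (m ≫ n') by rw [← hm]; group, mul_smul, h0]

end Groth.Agent.GrpAct
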