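import Mathlib.AlgebraicGeometry.AlgClosed.Basic
import Mathlib.RingTheory.IntegralClosure.IntegralRestrict

/-!
# Points with values in an algebraically closed extension
-/

universe u

open CategoryTheory AlgebraicGeometry

namespace Groth.Agent.GrpAct

variable {k K : Type u} [Field k] [Field K] [Algebra k K] [IsAlgClosed K]

/-- A closed point of a `k`-scheme locally of finite type lifts to a `K`-point, for `K` an
algebraically closed extension of `k`. -/
theorem exists_point {Z : Over (Spec (CommRingCat.of k))} [LocallyOfFiniteType Z.hom] (w : Z.left)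
    (hw : w ∈ closedPoints Z.left) :
    ∃ p : Over.mk (Spec.map (CommRingCat.ofHom (algebraMap k K))) ⟶ Z, ∀ t, p.left t = w := by
  have hfin : IsFinite (Z.left.fromSpecResidueField w ≫ Z.hom) := by
    have : IsClosedImmersion (Z.left.fromSpecResidueField w) :=
      isClosed_singleton_iff_isClosedImmersion.1 hw
    rw [isFinite_iff_locallyOfFiniteType_of_jacobsonSpace]
    infer_instance
  obtain ⟨φ, hφ⟩ : ∃ φ : CommRingCat.of k ⟶ Z.left.residueField w,
      Spec.map φ = Z.left.fromSpecResidueField w ≫ Z.hom := ⟨_, Spec.map_preimage _⟩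
  rw [← hφ, IsFinite.SpecMap_iff] at hfin
  algebraize [φ.hom]
  let ψ : Z.left.residueField w →ₐ[k] K := IsAlgClosed.lift
  refine ⟨Over.homMk (Spec.map (CommRingCat.ofHom ψ.toRingHom) ≫ Z.left.fromSpecResidueField w) ?_,
    fun t => ?_⟩
  · rw [Category.assoc, ← hφ, ← Spec.map_comp]
    congr 1
    ext x
    exact ψ.commutes x
  · change (Spec.map _ ≫ Z.left.fromSpecResidueField w) t = w
    rw [Scheme.Hom.comp_apply, Scheme.fromSpecResidueField_apply]

end Groth.Agent.GrpAct
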