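import Groth.Agent.GrpAct.Basic
import Groth.Agent.GrpBasic.Cartier
import Groth.Agent.InfLift.SchemeSmallExt
import Mathlib.AlgebraicGeometry.AlgClosed.Basic
import Mathlib.AlgebraicGeometry.Morphisms.Smooth
import Mathlib.AlgebraicGeometry.FunctionField
import Mathlib.RingTheory.Smooth.Field

/-!
Orbit maps of homogeneous spaces in characteristic zero are smooth.
-/

set_option autoImplicit false
set_option linter.style.haveILetI false
set_option linter.unusedSectionVars false
set_option backward.isDefEq.respectTransparency false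

universe u

open CategoryTheory CategoryTheory.Limits MonoidalCategory CartesianMonoidalCategory MonObj AlgebraicGeometry TopologicalSpace

noncomputable section

namespace Groth.Agent.GrpAct

variable {k : Type u} [Field k] {G X : Over (Spec (CommRingCat.of k))} [GrpObj G] (a : AlgGrp.Action G X)

/-- Left translation by a rational point. -/
def ltrIso (σ : 𝟙_ (Over (Spec (CommRingCat.of k))) ⟶ G) : G ≅ G where
  hom := (toUnit G ≫ σ) * 𝟙 G
  inv := (toUnit G ≫ σ⁻¹) * 𝟙 G
  hom_inv_id := by
    rw [MonObj.comp_mul, Category.comp_id, comp_toUnit_assoc, ← _root_.mul_assoc, ← MonObj.comp_mul, inv_mul_cancel,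
      Hom.one_def, comp_toUnit_assoc, ← Hom.one_def, _root_.one_mul]
  inv_hom_id := by
    rw [MonObj.comp_mul, Category.comp_id, comp_toUnit_assoc, ← _root_.mul_assoc, ← MonObj.comp_mul, mul_inv_cancel,
      Hom.one_def, comp_toUnit_assoc, ← Hom.one_def, _root_.one_mul]

/-- The action of a rational point. -/
def actIso (σ : 𝟙_ (Over (Spec (CommRingCat.of k))) ⟶ G) : X ≅ X where
  hom := lift (toUnit X ≫ σ) (𝟙 X) ≫ a.act
  inv := lift (toUnit X ≫ σ⁻¹) (𝟙 X) ≫ a.act
  hom_inv_id := by
    rw [comp_smul, Category.comp_id, comp_toUnit_assoc, ← mul_smul, ← MonObj.comp_mul, inv_mul_cancel,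
      Hom.one_def, comp_toUnit_assoc, one_smul]
  inv_hom_id := by
    rw [comp_smul, Category.comp_id, comp_toUnit_assoc, ← mul_smul, ← MonObj.comp_mul, mul_inv_cancel,
      Hom.one_def, comp_toUnit_assoc, one_smul]

theorem ltrIso_orbitMap (σ : 𝟙_ (Over (Spec (CommRingCat.of k))) ⟶ G)
    (x : 𝟙_ (Over (Spec (CommRingCat.of k))) ⟶ X) :
    (ltrIso σ).hom ≫ a.orbitMap x = a.orbitMap x ≫ (actIso a σ).hom := by
  simp only [ltrIso, actIso, AlgGrp.Action.orbitMap]
  rw [comp_smul, Category.comp_id, comp_toUnit_assoc, comp_smul, Category.comp_id,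
    comp_toUnit_assoc, mul_smul]

/-- Smooth loci are insensitive to isomorphisms of the target. -/
theorem smoothLocus_comp_iso {A B C : Scheme.{u}} (f : A ⟶ B) (g : B ⟶ C) [IsIso g] [LocallyOfFinitePresentation f] :
    (f ≫ g).smoothLocus = f.smoothLocus := by
  ext z
  show ((f ≫ g).stalkMap z).hom.FormallySmooth ↔ (f.stalkMap z).hom.FormallySmooth
  rw [Scheme.Hom.stalkMap_comp]
  exact RingHom.FormallySmooth.respectsIso.cancel_left_isIso _ _

variable [IsAlgClosed k] [CharZero k] [IsIntegral G.left] [LocallyOfFiniteType G.hom] [QuasiCompact G.hom]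
  [IsIntegral X.left] [LocallyOfFiniteType X.hom] [QuasiCompact X.hom]

omit [CharZero k] [IsIntegral G.left] [QuasiCompact G.hom] [IsIntegral X.left] [QuasiCompact X.hom] in
/-- Closed points are rational points. -/
theorem exists_pt_of_closed {Z : Over (Spec (CommRingCat.of k))} [LocallyOfFiniteType Z.hom] {z : Z.left}
    (hz : IsClosed ({z} : Set Z.left)) :
    ∃ p : 𝟙_ (Over (Spec (CommRingCat.of k))) ⟶ Z, ∀ t, p.left t = z :=
  ⟨Over.homMk (pointOfClosedPoint Z.hom z hz) (pointOfClosedPoint_comp _ _ _), pointOfClosedPoint_apply _ _ hz⟩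

/-- Orbit maps of homogeneous spaces are smooth in characteristic zero. -/
theorem smooth_orbitMap
    (htrans : ∀ y y' : 𝟙_ (Over (Spec (CommRingCat.of k))) ⟶ X,
      ∃ σ : 𝟙_ (Over (Spec (CommRingCat.of k))) ⟶ G, lift σ y ≫ a.act = y')
    (x : 𝟙_ (Over (Spec (CommRingCat.of k))) ⟶ X) : Smooth (a.orbitMap x).left := by
  let f := (a.orbitMap x).left
  haveI : LocallyOfFiniteType (f ≫ X.hom) := by rw [Over.w]; infer_instance
  haveI : LocallyOfFiniteType f := locallyOfFiniteType_of_comp f X.hom
  haveI : IsLocallyNoetherian X.left := LocallyOfFiniteType.isLocallyNoetherian X.hom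
  haveI : LocallyOfFinitePresentation f := InfLift.lfp_of_lft f
  haveI : JacobsonSpace G.left := LocallyOfFiniteType.jacobsonSpace G.hom
  haveI : JacobsonSpace X.left := LocallyOfFiniteType.jacobsonSpace X.hom
  -- the generic point goes to the generic point
  have hη : f (genericPoint G.left) = genericPoint X.left := by
    refine ((genericPoint_spec X.left).eq ?_).symm
    refine isGenericPoint_def.2 (Set.eq_univ_of_univ_subset ?_)
    rw [← closure_closedPoints (X := X.left)]
    refine closure_minimal (fun c hc => ?_) isClosed_closure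
    obtain ⟨y, hy⟩ := exists_pt_of_closed (Z := X) hc
    obtain ⟨σ, hσ⟩ := htrans x y
    let t : (𝟙_ (Over (Spec (CommRingCat.of k)))).left := IsLocalRing.closedPoint k
    have h1 : σ ≫ a.orbitMap x = y := by
      rw [AlgGrp.Action.orbitMap, comp_smul, Category.comp_id, comp_toUnit_assoc,
        toUnit_unique (toUnit _) (𝟙 _), Category.id_comp, hσ]
    have h2 : c = f (σ.left t) := by
      rw [← hy t, ← h1, Over.comp_left]
      rfl
    rw [h2]
    exact (((genericPoint_spec G.left).specializes (Set.mem_univ _)).map f.continuous).mem_closure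
  have hgen : genericPoint G.left ∈ f.smoothLocus := by
    rw [Scheme.Hom.mem_smoothLocus]
    have hft := LocallyOfFiniteType.stalkMap f (genericPoint G.left)
    algebraize [(f.stalkMap (genericPoint G.left)).hom]
    let e : X.left.presheaf.stalk (f (genericPoint G.left)) ≅ X.left.functionField :=
      X.left.presheaf.stalkCongr (.of_eq hη)
    letI : Field (X.left.presheaf.stalk (f (genericPoint G.left))) :=
      (e.commRingCatIsoToRingEquiv.toMulEquiv.isField (Field.toIsField X.left.functionField)).toField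
    let φ : k →+* X.left.presheaf.stalk (f (genericPoint G.left)) :=
      ((Scheme.ΓSpecIso (CommRingCat.of k)).inv ≫ X.hom.appTop ≫ X.left.presheaf.germ ⊤ _ trivial).hom
    haveI : CharZero (X.left.presheaf.stalk (f (genericPoint G.left))) := charZero_of_injective_ringHom φ.injective
    letI : Field (G.left.presheaf.stalk (genericPoint G.left)) := inferInstanceAs (Field G.left.functionField)
    exact Algebra.FormallySmooth.of_perfectField
  refine Scheme.Hom.smoothLocus_eq_top_iff.1 (top_le_iff.1 fun z _ => ?_)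
  -- every closed point is moved to a point of the smooth locus
  obtain ⟨g₀, hg₀, hg₀c⟩ := nonempty_inter_closedPoints (Z := (f.smoothLocus : Set G.left)) ⟨_, hgen⟩
    f.smoothLocus.2.isLocallyClosed
  have hclosed : ∀ g₁ : G.left, IsClosed ({g₁} : Set G.left) → g₁ ∈ f.smoothLocus := by
    intro g₁ hg₁
    obtain ⟨p, hp⟩ := exists_pt_of_closed (Z := G) hg₁
    obtain ⟨q, hq⟩ := exists_pt_of_closed (Z := G) hg₀c
    let σ := q * p⁻¹
    let t : (𝟙_ (Over (Spec (CommRingCat.of k)))).left := IsLocalRing.closedPoint k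
    haveI : IsIso (ltrIso σ).hom.left := ((Over.forget _).mapIso (ltrIso σ)).isIso_hom
    haveI : IsIso (actIso a σ).hom.left := ((Over.forget _).mapIso (actIso a σ)).isIso_hom
    have h1 : (ltrIso σ).hom.left g₁ = g₀ := by
      rw [← hp t, ← Scheme.Hom.comp_apply, ← Over.comp_left,
        show p ≫ (ltrIso σ).hom = q by
          simp only [ltrIso, σ]
          rw [MonObj.comp_mul, Category.comp_id, comp_toUnit_assoc, toUnit_unique (toUnit _) (𝟙 _),
            Category.id_comp, inv_mul_cancel_right],
        hq t]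
    have h2 : g₁ ∈ (ltrIso σ).hom.left ⁻¹ᵁ f.smoothLocus := by
      show (ltrIso σ).hom.left g₁ ∈ f.smoothLocus
      rw [h1]; exact hg₀
    rw [Scheme.Hom.preimage_smoothLocus_eq] at h2
    have h3 : (ltrIso σ).hom.left ≫ f = f ≫ (actIso a σ).hom.left := by
      rw [← Over.comp_left, ← Over.comp_left, ltrIso_orbitMap]
    simp only [h3] at h2
    rwa [smoothLocus_comp_iso] at h2
  have : (closedPoints G.left) ⊆ (f.smoothLocus : Set G.left) := fun c hc => hclosed c hc
  by_contra hz
  obtain ⟨c, hc, hcc⟩ := nonempty_inter_closedPoints (Z := (f.smoothLocus : Set G.left)ᶜ) ⟨z, hz⟩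
    f.smoothLocus.2.isClosed_compl.isLocallyClosed
  exact hc (this hcc)

end Groth.Agent.GrpAct
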