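import Groth.Agent.GrpAct.OrbitFlat
import Groth.Prelude.Def_AGF
import Groth.Agent.GrpField.Range
import Mathlib.AlgebraicGeometry.IdealSheaf.Subscheme

/-!
# Orbits as quotients by stabilizers
-/

universe u

open CategoryTheory CategoryTheory.Limits MonoidalCategory CartesianMonoidalCategory MonObj AlgebraicGeometry TopologicalSpace
open Groth.Agent.GrpField

noncomputable section

namespace Groth.Agent.GrpAct

variable {S : Scheme.{u}} {G X H : Over S} [GrpObj G] (a : AlgGrp.Action G X) (o : 𝟙_ (Over S) ⟶ X)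
  (i : H ⟶ G)

/-- The orbit map of a point identifies `G ⊗ stabilizer` with `G ×_X G`. -/
theorem isPullback_of_stabilizer (hH : IsPullback i (toUnit H) (a.orbitMap o) o) :
    IsPullback (fst G H) ((G ◁ i) ≫ μ[G]) (a.orbitMap o) (a.orbitMap o) := by
  have key : ∀ (T : Over S) (g : T ⟶ G) (h : T ⟶ H),
      lift g h ≫ (G ◁ i) ≫ μ[G] = g * (h ≫ i) := by
    intro T g h
    rw [lift_whiskerLeft_assoc, Hom.mul_def]
  have hh : ∀ (T : Over S) (h : T ⟶ H), lift (h ≫ i) (toUnit T ≫ o) ≫ a.act = toUnit T ≫ o := by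
    intro T h
    rw [← comp_orbitMap, Category.assoc, hH.w, comp_toUnit_assoc]
  have w : fst G H ≫ a.orbitMap o = ((G ◁ i) ≫ μ[G]) ≫ a.orbitMap o := by
    conv_rhs => rw [← Category.id_comp ((G ◁ i) ≫ μ[G]), ← lift_fst_snd, key]
    rw [comp_orbitMap, comp_orbitMap, mul_smul, hh]
  refine IsPullback.of_isLimit' ⟨w⟩ (PullbackCone.IsLimit.mk _
    (fun s => lift s.fst (hH.lift (s.fst⁻¹ * s.snd) (toUnit s.pt) ?_)) (fun s => ?_) (fun s => ?_) ?_)
  · have hc := s.condition
    rw [comp_orbitMap, comp_orbitMap] at hc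
    rw [comp_orbitMap, mul_smul, ← hc, ← mul_smul, inv_mul_cancel, one_smul']
  · exact lift_fst _ _
  · rw [key, hH.lift_fst, mul_inv_cancel_left]
  · intro s m h1 h2
    apply CartesianMonoidalCategory.hom_ext
    · rw [lift_fst]; exact h1
    · rw [lift_snd]
      refine hH.hom_ext ?_ (toUnit_unique _ _)
      rw [hH.lift_fst]
      have h3 : m ≫ (G ◁ i) ≫ μ[G] = (m ≫ fst G H) * ((m ≫ snd G H) ≫ i) := by
        rw [← key, ← comp_lift_assoc, lift_fst_snd, Category.id_comp]
      rw [h2, h1] at h3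
      rw [h3, inv_mul_cancel_left]

/-- Flat surjective orbit maps are quotient maps by the stabilizer. -/
theorem isQuotient_of_flat [GrpObj H] [LocallyOfFiniteType X.hom] (hH : IsPullback i (toUnit H) (a.orbitMap o) o)
    (hf : Flat (a.orbitMap o).left) (hs : Surjective (a.orbitMap o).left) :
    AGF.IsQuotient i X a o :=
  ⟨‹_›, hf, hs, isPullback_of_stabilizer a o i hH⟩

omit [GrpObj G] in
/-- A locally closed set is the range of an immersion from a reduced scheme. -/
theorem exists_reduced_subscheme {Y : Scheme.{u}} {A : Set Y} (hA : IsLocallyClosed A) :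
    ∃ (O : Scheme.{u}) (j : O ⟶ Y), IsImmersion j ∧ IsReduced O ∧ Set.range j = A := by
  let U : Y.Opens := ⟨coborder A, hA.isOpen_coborder⟩
  have hC : IsClosed (U.ι ⁻¹' A) := by
    have h := hA
    have : U.ι ⁻¹' A = U.ι ⁻¹' closure A := by
      ext y
      refine ⟨fun hy => subset_closure hy, fun hy => ?_⟩
      have h1 : U.ι y ∈ coborder A ∩ closure A := ⟨y.2, hy⟩
      rwa [coborder_inter_closure] at h1
    rw [this]
    exact isClosed_closure.preimage U.ι.continuous
  let I := Scheme.IdealSheafData.vanishingIdeal (⟨_, hC⟩ : TopologicalSpace.Closeds U)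
  refine ⟨I.subscheme, I.subschemeι ≫ U.ι, inferInstance, isReduced_vanishingIdeal (H := Over.mk (𝟙 U.toScheme)) ⟨_, hC⟩, ?_⟩
  rw [Scheme.Hom.comp_base, TopCat.coe_comp, Set.range_comp, Scheme.IdealSheafData.range_subschemeι,
    Scheme.IdealSheafData.coe_support_vanishingIdeal]
  show U.ι '' (U.ι ⁻¹' A) = A
  rw [Set.image_preimage_eq_inter_range, Scheme.Opens.range_ι, Set.inter_eq_left]
  exact subset_coborder

section Field

variable {k : Type u} [Field k] {G X H : Over (Spec (CommRingCat.of k))} [GrpObj G] [GrpObj H]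
  [Smooth G.hom] [QuasiCompact G.hom] [LocallyOfFiniteType X.hom]
  (a : AlgGrp.Action G X) (x : 𝟙_ (Over (Spec (CommRingCat.of k))) ⟶ X) (i : H ⟶ G)

/-- The quotient by a stabilizer is the reduced orbit. -/
theorem exists_isQuotient [QuasiSeparatedSpace X.left] (hH : IsPullback i (toUnit H) (a.orbitMap x) x) :
    ∃ (Y : Over (Spec (CommRingCat.of k))) (b : AlgGrp.Action G Y) (y : 𝟙_ _ ⟶ Y) (f : Y ⟶ X),
      AGF.IsQuotient i Y b y ∧ (G ◁ f) ≫ a.act = b.act ≫ f ∧ y ≫ f = x ∧ IsImmersion f.left := by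
  have : Subsingleton (Spec (CommRingCat.of k)) := inferInstanceAs (Subsingleton (PrimeSpectrum k))
  obtain ⟨O, j, hj, hred, hr⟩ := exists_reduced_subscheme (isLocallyClosed_orbit' a x)
  let Y : Over (Spec (CommRingCat.of k)) := Over.mk (j ≫ X.hom)
  let f : Y ⟶ X := Over.homMk j
  have : IsImmersion f.left := hj
  have : IsReduced Y.left := hred
  obtain ⟨b, y, hb, hy, hby⟩ := exists_action a x f hr
  have hlft : LocallyOfFiniteType Y.hom := inferInstanceAs (LocallyOfFiniteType (j ≫ X.hom))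
  obtain ⟨φ, hφ, hflat, hsurj, -, -⟩ := exists_flat_orbitMap a x f hr
  have : Mono f := (Over.forget _).mono_of_mono_map (inferInstanceAs (Mono f.left))
  have he : φ = b.orbitMap y := by rw [← cancel_mono f, hφ, hby]
  subst he
  have hHY : IsPullback i (toUnit H) (b.orbitMap y) y := by
    refine IsPullback.of_isLimit' ⟨by rw [← cancel_mono f, Category.assoc, hby, Category.assoc, hy, hH.w]⟩
      (PullbackCone.IsLimit.mk _ (fun s => hH.lift s.fst s.snd ?_) (fun s => hH.lift_fst _ _ _)
        (fun s => hH.lift_snd _ _ _) fun s m h1 h2 => hH.hom_ext ?_ ?_)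
    · rw [← hby, ← hy, ← Category.assoc, s.condition, Category.assoc]
    · rw [hH.lift_fst, h1]
    · rw [hH.lift_snd, h2]
  exact ⟨Y, b, y, f, isQuotient_of_flat b y i hHY hflat hsurj, hb.symm, hy, inferInstance⟩

end Field

end Groth.Agent.GrpAct
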