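import Groth.Agent.GrpAct.Basic
import Groth.Agent.GrpField.Dimension
import Groth.Agent.GrpField.Descent
import Groth.Agent.DomLib.Basic
import Groth.Agent.Unibranch.ComponentDim

/-!
# Orbits are locally closed, and their boundaries are smaller
-/

universe u

open CategoryTheory CategoryTheory.Limits MonoidalCategory CartesianMonoidalCategory MonObj AlgebraicGeometry TopologicalSpace
open Groth.Agent.GrpField Groth.Agent.Unibranch

noncomputable section

namespace Groth.Agent.GrpAct

variable {S : Scheme.{u}} [PointBase S] [Subsingleton S] [Nonempty S] {G X : Over S} [GrpObj G]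
  (a : AlgGrp.Action G X) {T : Over S}

/-- The translation of `X ⊗ T` by a point. -/
def actT (c : T ⟶ G) : X ⊗ T ≅ X ⊗ T where
  hom := lift (lift (snd X T ≫ c) (fst X T) ≫ a.act) (snd X T)
  inv := lift (lift (snd X T ≫ c)⁻¹ (fst X T) ≫ a.act) (snd X T)
  hom_inv_id := by
    apply CartesianMonoidalCategory.hom_ext
    · rw [Category.assoc, lift_fst, comp_smul, GrpObj.comp_inv, lift_fst, lift_snd_assoc, ← mul_smul,
        inv_mul_cancel, one_smul', Category.id_comp]
    · simp
  inv_hom_id := by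
    apply CartesianMonoidalCategory.hom_ext
    · rw [Category.assoc, lift_fst, comp_smul, lift_fst, lift_snd_assoc, ← mul_smul,
        mul_inv_cancel, one_smul', Category.id_comp]
    · simp

variable (x : 𝟙_ (Over S) ⟶ X)

/-- The orbit. -/
abbrev orbit : Set X.left := Set.range (a.orbitMap x).left.base

omit [PointBase S] [Subsingleton S] [Nonempty S] in
theorem comp_orbitMap {T' : Over S} (g : T' ⟶ G) :
    g ≫ a.orbitMap x = lift g (toUnit T' ≫ x) ≫ a.act := by
  rw [AlgGrp.Action.orbitMap, comp_smul, Category.comp_id, comp_toUnit_assoc]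

omit [PointBase S] [Subsingleton S] [Nonempty S] in
theorem lift_orbitMap_actT (c : T ⟶ G) :
    lift (fst G T ≫ a.orbitMap x) (snd G T) ≫ (actT a c).hom =
      (trL c).hom ≫ lift (fst G T ≫ a.orbitMap x) (snd G T) := by
  apply CartesianMonoidalCategory.hom_ext
  · simp only [actT, trL, Category.assoc, lift_fst]
    rw [comp_smul, lift_fst, lift_snd_assoc, comp_orbitMap, ← mul_smul, comp_smul, lift_fst,
      comp_toUnit_assoc]
  · simp [actT, trL]

omit [Nonempty S] in
/-- The preimage of the orbit is the range of the base changed orbit map. -/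
theorem preimage_orbit (T : Over S) :
    (fst X T).left ⁻¹' orbit a x = Set.range (lift (fst G T ≫ a.orbitMap x) (snd G T)).left := by
  have h : IsPullback (lift (fst G T ≫ a.orbitMap x) (snd G T)).left (fst G T).left (fst X T).left
      (a.orbitMap x).left := by
    refine (IsPullback.of_bot ?_ ?_ (IsPullback.of_hasPullback X.hom T.hom)).flip
    · have h1 : (lift (fst G T ≫ a.orbitMap x) (snd G T)).left ≫ (snd X T).left = (snd G T).left := by
        rw [← Over.comp_left, lift_snd]
      change IsPullback (fst G T).left ((lift (fst G T ≫ a.orbitMap x) (snd G T)).left ≫ (snd X T).left)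
        ((a.orbitMap x).left ≫ X.hom) T.hom
      rw [h1, Over.w]
      exact IsPullback.of_hasPullback G.hom T.hom
    · exact (congrArg (fun f => f.left) (lift_fst (fst G T ≫ a.orbitMap x) (snd G T))).symm
  ext w
  constructor
  · rintro ⟨g, hg⟩
    obtain ⟨v, h1, h2⟩ := Scheme.Pullback.exists_preimage_pullback (f := (fst X T).left)
      (g := (a.orbitMap x).left) w g hg.symm
    refine ⟨h.isoPullback.inv v, ?_⟩
    rw [← Scheme.Hom.comp_apply, h.isoPullback_inv_fst]
    exact h1
  · rintro ⟨v, rfl⟩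
    exact ⟨(fst G T).left v, by rw [← Scheme.Hom.comp_apply, ← Scheme.Hom.comp_apply, h.w]⟩

omit [Nonempty S] in
theorem actT_preimage_orbit (c : T ⟶ G) :
    homeo (actT a c) '' ((fst X T).left ⁻¹' orbit a x) = (fst X T).left ⁻¹' orbit a x := by
  have hE := lift_orbitMap_actT a x c
  ext w
  rw [preimage_orbit]
  constructor
  · rintro ⟨_, ⟨v, rfl⟩, rfl⟩
    refine ⟨(trL c).hom.left v, ?_⟩
    rw [homeo_apply, ← Scheme.Hom.comp_apply, ← Scheme.Hom.comp_apply, ← Over.comp_left, ← Over.comp_left, hE]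
  · rintro ⟨v, rfl⟩
    refine ⟨(lift (fst G T ≫ a.orbitMap x) (snd G T)).left ((trL c).inv.left v), ⟨_, rfl⟩, ?_⟩
    rw [homeo_apply, ← Scheme.Hom.comp_apply, ← Scheme.Hom.comp_apply, ← Over.comp_left, ← Over.comp_left,
      hE, Iso.inv_hom_id_assoc]

omit [Nonempty S] in
theorem preimage_closure_orbit [IsPt T] :
    (fst X T).left ⁻¹' closure (orbit a x) = closure ((fst X T).left ⁻¹' orbit a x) :=
  (isOpenMap_fst (G := X) (T := T)).preimage_closure_eq_closure_preimage
    (fst X T).left.continuous _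

omit [Nonempty S] in
/-- Translations preserve the orbit and its closure. -/
theorem actT_mem [IsPt T] (c : T ⟶ G) (w : (X ⊗ T).left) :
    ((fst X T).left ((actT a c).hom.left w) ∈ orbit a x ↔ (fst X T).left w ∈ orbit a x) ∧
    ((fst X T).left ((actT a c).hom.left w) ∈ closure (orbit a x) ↔
      (fst X T).left w ∈ closure (orbit a x)) := by
  have h := actT_preimage_orbit a x c
  have h' : homeo (actT a c) '' closure ((fst X T).left ⁻¹' orbit a x) =
      closure ((fst X T).left ⁻¹' orbit a x) := by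
    rw [(homeo (actT a c)).image_closure, h]
  refine ⟨?_, ?_⟩
  · exact ((Set.ext_iff.1 h _).symm.trans ((homeo (actT a c)).injective.mem_set_image))
  · rw [← Set.mem_preimage, ← Set.mem_preimage (f := (fst X T).left) (a := w), preimage_closure_orbit a x]
    exact ((Set.ext_iff.1 h' _).symm.trans ((homeo (actT a c)).injective.mem_set_image))

omit [Nonempty S] in
/-- Two points of the orbit are exchanged by a translation over some field-valued point. -/
theorem exists_actT (g₀ g₁ : G.left) :
    ∃ (T : Over S) (_ : IsPt T) (c : T ⟶ G) (w : (X ⊗ T).left),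
      (fst X T).left w = (a.orbitMap x).left g₀ ∧
      (fst X T).left ((actT a c).hom.left w) = (a.orbitMap x).left g₁ := by
  obtain ⟨T, hT, p, q, hp, hq⟩ := exists_pt₂ (X := G) (Y := G) g₀ g₁
  obtain ⟨t⟩ := IsPt.nonempty T
  refine ⟨T, hT, q * p⁻¹, (lift (p ≫ a.orbitMap x) (𝟙 T)).left t, ?_, ?_⟩
  · rw [← Scheme.Hom.comp_apply, ← Over.comp_left, lift_fst, Over.comp_left, Scheme.Hom.comp_apply, hp]
  · rw [← Scheme.Hom.comp_apply, ← Scheme.Hom.comp_apply, ← Over.comp_left, ← Over.comp_left,
      show (lift (p ≫ a.orbitMap x) (𝟙 T) ≫ (actT a (q * p⁻¹)).hom ≫ fst X T) = q ≫ a.orbitMap x by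
        simp only [actT, lift_fst]
        rw [comp_smul, lift_fst, lift_snd_assoc, Category.id_comp, comp_orbitMap, ← mul_smul,
          inv_mul_cancel_right, ← comp_orbitMap],
      Over.comp_left, Scheme.Hom.comp_apply, hq]

/-- Orbits are locally closed. -/
theorem isLocallyClosed_orbit [QuasiCompact (a.orbitMap x).left]
    [LocallyOfFinitePresentation (a.orbitMap x).left] : IsLocallyClosed (orbit a x) := by
  set O := orbit a x
  have hA : Topology.IsLocallyConstructible O := by
    rw [show O = (a.orbitMap x).left '' Set.univ from Set.image_univ.symm]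
    exact (a.orbitMap x).left.isLocallyConstructible_image .univ
  obtain ⟨⟨s⟩⟩ := (inferInstance : Nonempty S), True.intro
  have hne : O.Nonempty := ⟨_, η[G].left s, rfl⟩
  obtain ⟨W, -, hW, ⟨_, hwW, g₀, rfl⟩, hWO⟩ :=
    exists_isOpen_inter_closure_subset hA isOpen_univ (by rwa [Set.univ_inter])
  have key : ∀ o ∈ O, ∃ V : Set X.left, IsOpen V ∧ o ∈ V ∧ V ∩ closure O ⊆ O := by
    rintro _ ⟨g₁, rfl⟩
    obtain ⟨T, hT, c, w, hw, hw'⟩ := exists_actT a x g₀ g₁
    refine ⟨(fst X T).left '' (homeo (actT a c) '' ((fst X T).left ⁻¹' W)), ?_, ?_, ?_⟩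
    · exact isOpenMap_fst _ ((homeo (actT a c)).isOpenMap _ (hW.preimage (fst X T).left.continuous))
    · exact ⟨_, ⟨w, show (fst X T).left w ∈ W from hw ▸ hwW, rfl⟩, hw'⟩
    · rintro _ ⟨⟨_, ⟨v, hv, rfl⟩, rfl⟩, hcl⟩
      rw [homeo_apply] at hcl ⊢
      exact (actT_mem a x c v).1.2 (hWO ⟨(actT_mem a x c v).2.1 hcl, hv⟩)
  choose V hV hoV hVO using key
  have e : O = (⋃ o, ⋃ h, V o h) ∩ closure O := by
    refine Set.Subset.antisymm (fun o ho => ⟨Set.mem_iUnion₂.2 ⟨o, ho, hoV o ho⟩, subset_closure ho⟩) ?_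
    rintro y ⟨hy, hyc⟩
    obtain ⟨o, ho, hy⟩ := Set.mem_iUnion₂.1 hy
    exact hVO o ho ⟨hy, hyc⟩
  rw [e]
  exact (isOpen_iUnion fun o => isOpen_iUnion fun h => hV o h).isLocallyClosed.inter
    isClosed_closure.isLocallyClosed

omit [Nonempty S] in
/-- The boundary of an orbit is stable under the group. -/
theorem orbit_subset_boundary (y : 𝟙_ (Over S) ⟶ X) (s : (𝟙_ (Over S)).left)
    (hy : y.left s ∈ closure (orbit a x) \ orbit a x) :
    orbit a y ⊆ closure (orbit a x) \ orbit a x := by
  rintro _ ⟨g, rfl⟩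
  obtain ⟨T, hT, p, hp⟩ := exists_pt g
  obtain ⟨t⟩ := IsPt.nonempty T
  let w := (lift (toUnit T ≫ y) (𝟙 T)).left t
  have hw : (fst X T).left w = y.left s := by
    rw [← Scheme.Hom.comp_apply, ← Over.comp_left, lift_fst, Over.comp_left, Scheme.Hom.comp_apply]
    exact congrArg _ (Subsingleton.elim (α := S) _ _)
  have hw' : (fst X T).left ((actT a p).hom.left w) = (a.orbitMap y).left g := by
    rw [← Scheme.Hom.comp_apply, ← Scheme.Hom.comp_apply, ← Over.comp_left, ← Over.comp_left,
      show (lift (toUnit T ≫ y) (𝟙 T) ≫ (actT a p).hom ≫ fst X T) = p ≫ a.orbitMap y by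
        simp only [actT, lift_fst]
        rw [comp_smul, lift_fst, lift_snd_assoc, Category.id_comp, comp_orbitMap],
      Over.comp_left, Scheme.Hom.comp_apply, hp]
  rw [Set.mem_sdiff, ← hw', (actT_mem a x p w).1, (actT_mem a x p w).2, hw]
  exact hy

end Groth.Agent.GrpAct
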