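import Groth.Agent.GrpdSlice.CM
import Groth.Agent.LocalDimBC.Scheme
import Groth.Agent.S1617
import Groth.Agent.S1618
import Groth.Agent.S5798
import Mathlib.RingTheory.Ideal.KrullsHeightTheorem

/-!
Dimensions at closed points of schemes locally of finite type over a field.
-/

set_option autoImplicit false
set_option linter.style.haveILetI false
set_option linter.unusedSectionVars false
set_option backward.isDefEq.respectTransparency false

universe u

open CategoryTheory CategoryTheory.Limits AlgebraicGeometry TopologicalSpace IsLocalRing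

noncomputable section

namespace Groth.Agent.GrpAct

variable {k : Type u} [Field k]

theorem exists_nat_ringKrullDim (R : Type u) [CommRing R] [IsNoetherianRing R] [IsLocalRing R] :
    ∃ m : ℕ, ringKrullDim R = (m : WithBot ℕ∞) := by
  have h : (maximalIdeal R).height ≠ ⊤ := ne_top_of_lt (Ideal.height_lt_top (Ideal.IsPrime.ne_top inferInstance))
  obtain ⟨m, hm⟩ := ENat.ne_top_iff_exists.1 h
  exact ⟨m, by rw [← maximalIdeal_height_eq_ringKrullDim, ← hm]; rfl⟩

/-- For a flat morphism the dimension of a local ring is that of the base plus that of the fibre. -/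
theorem dim_stalk_eq_add_fibreDimAt {A B : Scheme.{u}} (f : A ⟶ B) [Flat f] [LocallyOfFiniteType f]
    [IsLocallyNoetherian B] (a : A) (ha : IsClosed ({a} : Set A)) :
    ∃ i j : ℕ, ringKrullDim (B.presheaf.stalk (f a)) = (i : WithBot ℕ∞) ∧
      FlatMor.fibreDimAt f a = (j : WithBot ℕ∞) ∧ ringKrullDim (A.presheaf.stalk a) = ((i + j : ℕ) : WithBot ℕ∞) := by
  haveI : IsLocallyNoetherian A := LocallyOfFiniteType.isLocallyNoetherian f
  letI := (f.stalkMap a).hom.toAlgebra
  haveI : Module.Flat (B.presheaf.stalk (f a)) (A.presheaf.stalk a) := Flat.stalkMap f a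
  haveI : IsLocalHom (algebraMap (B.presheaf.stalk (f a)) (A.presheaf.stalk a)) :=
    inferInstanceAs (IsLocalHom (f.stalkMap a).hom)
  let p := maximalIdeal (B.presheaf.stalk (f a))
  let P := maximalIdeal (A.presheaf.stalk a)
  haveI : P.LiesOver p := ⟨Ideal.ext fun c => by
    show c ∈ maximalIdeal _ ↔ algebraMap _ _ c ∈ maximalIdeal _
    simp [mem_maximalIdeal, mem_nonunits_iff, isUnit_map_iff]⟩
  let I := p.map (algebraMap (B.presheaf.stalk (f a)) (A.presheaf.stalk a))
  have hIP : I ≤ P := Ideal.map_le_iff_le_comap.2 (le_of_eq (Ideal.LiesOver.over (p := p) (P := P)))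
  haveI : Nontrivial (A.presheaf.stalk a ⧸ I) :=
    Ideal.Quotient.nontrivial_iff.2 fun h => (Ideal.IsPrime.ne_top inferInstance : P ≠ ⊤) (top_le_iff.1 (h ▸ hIP))
  haveI : IsLocalRing (A.presheaf.stalk a ⧸ I) := .of_surjective' (Ideal.Quotient.mk I) Ideal.Quotient.mk_surjective
  have hmax : P.map (Ideal.Quotient.mk I) = maximalIdeal (A.presheaf.stalk a ⧸ I) := by
    refine eq_maximalIdeal ((Ideal.map_eq_top_or_isMaximal_of_surjective (Ideal.Quotient.mk I)
      Ideal.Quotient.mk_surjective (maximalIdeal.isMaximal _)).resolve_left fun h => ?_)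
    have h1 := congrArg (Ideal.comap (Ideal.Quotient.mk I)) h
    rw [Ideal.comap_map_of_surjective _ Ideal.Quotient.mk_surjective, ← RingHom.ker_eq_comap_bot, Ideal.mk_ker,
      sup_eq_left.2 hIP, Ideal.comap_top] at h1
    exact (Ideal.IsPrime.ne_top inferInstance : P ≠ ⊤) h1
  have hh : P.height = p.height + (P.map (Ideal.Quotient.mk I)).height :=
    Ideal.height_eq_height_add_of_liesOver_of_hasGoingDown p P
  rw [hmax] at hh
  obtain ⟨i, hi⟩ := exists_nat_ringKrullDim (B.presheaf.stalk (f a))
  obtain ⟨j, hj⟩ := exists_nat_ringKrullDim (A.presheaf.stalk a ⧸ I)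
  refine ⟨i, j, hi, ?_, ?_⟩
  · rw [GrpdSlice.fibreDimAt_eq_ringKrullDim f a ?_, ← hj]
    · rfl
    · have : ((f.fiberι (f a)) ⁻¹' {a}) = {f.asFiber a} := by
        ext w
        simp only [Set.mem_preimage, Set.mem_singleton_iff]
        refine ⟨fun h => (f.fiberι (f a)).isEmbedding.injective (h.trans (f.fiberι_asFiber a).symm), fun h => ?_⟩
        rw [h, f.fiberι_asFiber]
      rw [← this]
      exact ha.preimage (f.fiberι (f a)).continuous
  · rw [← maximalIdeal_height_eq_ringKrullDim] at hi hj ⊢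
    rw [hh, WithBot.coe_add, hi, hj, Nat.cast_add]

omit [Field k] in
theorem isField_stalk_Spec (k : Type u) [Field k] (p : Spec (CommRingCat.of k)) :
    ringKrullDim ((Spec (CommRingCat.of k)).presheaf.stalk p) = 0 := by
  letI : Algebra (CommRingCat.of k) ((Spec (CommRingCat.of k)).presheaf.stalk p) := inferInstanceAs
    (Algebra (CommRingCat.of k) ((Spec.structureSheaf (CommRingCat.of k)).presheaf.stalk p))
  haveI : IsLocalization.AtPrime ((Spec (CommRingCat.of k)).presheaf.stalk p) p.asIdeal := inferInstanceAs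
    (IsLocalization.AtPrime ((Spec.structureSheaf (CommRingCat.of k)).presheaf.stalk p) p.asIdeal)
  rw [IsLocalization.AtPrime.ringKrullDim_eq_height p.asIdeal]
  have h0 : p.asIdeal = ⊥ := (Ideal.eq_bot_or_top p.asIdeal).resolve_right p.2.ne_top
  rw [h0, Ideal.height_bot]
  rfl

/-- Over a field the fibre dimension at a closed point is the dimension of the local ring. -/
theorem fibreDimAt_eq_dim_stalk {A : Scheme.{u}} (f : A ⟶ Spec (CommRingCat.of k)) [LocallyOfFiniteType f]
    (a : A) (ha : IsClosed ({a} : Set A)) :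
    FlatMor.fibreDimAt f a = ringKrullDim (A.presheaf.stalk a) := by
  haveI : Subsingleton (Spec (CommRingCat.of k)) := inferInstanceAs (Subsingleton (PrimeSpectrum k))
  haveI : Flat f := inferInstance
  obtain ⟨i, j, hi, hj, hij⟩ := dim_stalk_eq_add_fibreDimAt f a ha
  rw [isField_stalk_Spec] at hi
  obtain rfl : i = 0 := by exact_mod_cast hi.symm
  rw [hij, hj, Nat.zero_add]

/-- The local dimension of an irreducible scheme is its dimension. -/
theorem localDim_eq_of_irreducible {A : Scheme.{u}} (f : A ⟶ Spec (CommRingCat.of k)) [LocallyOfFiniteType f]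
    [IrreducibleSpace A] (a : A) : FlatMor.localDim A a = topologicalKrullDim A := by
  letI : A.Over (Spec (CommRingCat.of k)) := ⟨f⟩
  haveI : LocallyOfFiniteType (A ↘ Spec (CommRingCat.of k)) := ‹LocallyOfFiniteType f›
  refine le_antisymm ?_ (le_iInf fun U => ?_)
  · exact (iInf_le (fun U : {U : TopologicalSpace.Opens A // a ∈ U} => topologicalKrullDim (U.1 : Set A)) ⟨⊤, trivial⟩).trans_eq
      (S1618.result k A ⊤ ⟨a, trivial⟩)
  · exact (S1618.result k A U.1 ⟨a, U.2⟩).ge

/-- Closed points of an irreducible scheme have local rings of full dimension. -/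
theorem dim_stalk_closed_eq {A : Scheme.{u}} (f : A ⟶ Spec (CommRingCat.of k)) [LocallyOfFiniteType f]
    [IrreducibleSpace A] (a : A) (ha : IsClosed ({a} : Set A)) :
    ringKrullDim (A.presheaf.stalk a) = topologicalKrullDim A := by
  letI : A.Over (Spec (CommRingCat.of k)) := ⟨f⟩
  haveI : LocallyOfFiniteType (A ↘ Spec (CommRingCat.of k)) := ‹LocallyOfFiniteType f›
  rw [← S1617.result k A a ha, localDim_eq_of_irreducible f a]

/-- A scheme whose closed points all have local dimension `d` has dimension `d`. -/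
theorem topologicalKrullDim_eq_of_closed {A : Scheme.{u}} (f : A ⟶ Spec (CommRingCat.of k)) [LocallyOfFiniteType f]
    [Nonempty A] (d : ℕ) (hd : ∀ a : A, IsClosed ({a} : Set A) → ringKrullDim (A.presheaf.stalk a) = (d : WithBot ℕ∞)) :
    topologicalKrullDim A = (d : WithBot ℕ∞) := by
  letI : A.Over (Spec (CommRingCat.of k)) := ⟨f⟩
  haveI : LocallyOfFiniteType (A ↘ Spec (CommRingCat.of k)) := ‹LocallyOfFiniteType f›
  haveI : JacobsonSpace A := LocallyOfFiniteType.jacobsonSpace f
  have hloc : ∀ a : closedPoints A, FlatMor.localDim A a.1 = (d : WithBot ℕ∞) := fun a =>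
    (S1617.result k A a.1 a.2).trans (hd a.1 a.2)
  have hatt : ∀ a : closedPoints A, ∃ U : {U : TopologicalSpace.Opens A // a.1 ∈ U},
      topologicalKrullDim (U.1 : Set A) = FlatMor.localDim A a.1 := fun a => by
    haveI : Nonempty {U : TopologicalSpace.Opens A // a.1 ∈ U} := ⟨⟨⊤, trivial⟩⟩
    exact ciInf_mem (fun U : {U : TopologicalSpace.Opens A // a.1 ∈ U} => topologicalKrullDim (U.1 : Set A))
  choose U hU using hatt
  have hcov : ⨆ a : closedPoints A, (U a).1 = ⊤ := by
    by_contra hne
    obtain ⟨x, hx⟩ : ∃ x, x ∉ ⨆ a : closedPoints A, (U a).1 := by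
      by_contra! hall
      exact hne (top_le_iff.1 fun x _ => hall x)
    obtain ⟨c, hc, hcc⟩ := nonempty_inter_closedPoints ⟨x, hx⟩
      ((⨆ a : closedPoints A, (U a).1).2.isClosed_compl).isLocallyClosed
    exact hc (Opens.mem_iSup.2 ⟨⟨c, hcc⟩, (U ⟨c, hcc⟩).2⟩)
  have hUd : ∀ a, topologicalKrullDim ((U a).1 : Set A) = (d : WithBot ℕ∞) := fun a => (hU a).trans (hloc a)
  rw [S5798.result A _ (fun a => (U a).1) hcov]
  refine le_antisymm (iSup_le fun a => (hUd a).le) ?_
  obtain ⟨c, -, hc⟩ := nonempty_inter_closedPoints (Z := (Set.univ : Set A)) Set.univ_nonempty isOpen_univ.isLocallyClosed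
  exact le_iSup_of_le ⟨c, hc⟩ (hUd _).ge

end Groth.Agent.GrpAct
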