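import Groth.Agent.GrpAct.Orbit

/-!
# Dimensions of orbits
-/

universe u

open CategoryTheory CategoryTheory.Limits MonoidalCategory CartesianMonoidalCategory MonObj AlgebraicGeometry TopologicalSpace
open Groth.Agent.GrpField Groth.Agent.Unibranch

noncomputable section

namespace Groth.Agent.GrpAct

variable {k : Type u} [Field k] {G X : Over (Spec (CommRingCat.of k))} [GrpObj G]
  [LocallyOfFiniteType G.hom] [QuasiCompact G.hom] [LocallyOfFiniteType X.hom]
  (a : AlgGrp.Action G X) (x : 𝟙_ (Over (Spec (CommRingCat.of k))) ⟶ X)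

/-- The orbit map is quasi-compact and locally of finite presentation. -/
theorem orbitMap_props [QuasiSeparatedSpace X.left] :
    QuasiCompact (a.orbitMap x).left ∧ LocallyOfFinitePresentation (a.orbitMap x).left := by
  have : IsLocallyNoetherian X.left := LocallyOfFiniteType.isLocallyNoetherian X.hom
  have h1 : LocallyOfFiniteType ((a.orbitMap x).left ≫ X.hom) := by rw [Over.w]; infer_instance
  have : LocallyOfFiniteType (a.orbitMap x).left := locallyOfFiniteType_of_comp _ X.hom
  have : QuasiCompact ((a.orbitMap x).left ≫ X.hom) := by rw [Over.w]; infer_instance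
  have : QuasiSeparated X.hom := HasAffineProperty.iff_of_isAffine.mpr ‹_›
  exact ⟨QuasiCompact.of_comp (a.orbitMap x).left X.hom, inferInstance⟩

theorem isLocallyClosed_orbit' : IsLocallyClosed (orbit a x) := by
  have : IsLocallyNoetherian X.left := LocallyOfFiniteType.isLocallyNoetherian X.hom
  have : Subsingleton (Spec (CommRingCat.of k)) := inferInstanceAs (Subsingleton (PrimeSpectrum k))
  obtain ⟨_, _⟩ := orbitMap_props a x
  exact isLocallyClosed_orbit a x

omit [GrpObj G] [LocallyOfFiniteType G.hom] [QuasiCompact G.hom] in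
/-- Chains in a scheme of finite type over a field are bounded. -/
theorem exists_chainsLE_univ [QuasiCompact X.hom] (p : Spec (CommRingCat.of k)) :
    ∃ E, ChainsLE X.hom (Set.univ : Set X.left) p E := by
  have : Subsingleton (Spec (CommRingCat.of k)) := inferInstanceAs (Subsingleton (PrimeSpectrum k))
  have : IsLocallyNoetherian X.left := LocallyOfFiniteType.isLocallyNoetherian X.hom
  have : CompactSpace X.left := HasAffineProperty.iff_of_isAffine.mp (inferInstance : QuasiCompact X.hom)
  have : IsNoetherian X.left := {}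
  choose E hE using fun ζ : X.left => exists_chainsLE X.hom ζ
  have hfin := NoetherianSpace.finite_irreducibleComponents (α := X.left)
  classical
  let g : Set X.left → ℕ := fun Z => if h : IsIrreducible Z then E h.genericPoint else 0
  refine ⟨hfin.toFinset.sup g, fun m c hc hc' => ?_⟩
  have hZ := irreducibleComponent_mem_irreducibleComponents (c 0)
  have hirr : IsIrreducible (irreducibleComponent (c 0)) := isIrreducible_irreducibleComponent
  refine le_trans ?_ (Finset.le_sup (f := g) (hfin.mem_toFinset.2 hZ))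
  simp only [g, dif_pos hirr]
  refine hE hirr.genericPoint m c (fun i => ⟨?_, Subsingleton.elim _ _⟩) hc'
  refine (specializes_of_chain c hc' i).mem_closed isClosed_closure ?_
  rw [hirr.genericPoint_closure_eq]
  exact subset_closure mem_irreducibleComponent

/-- The boundary of an orbit has smaller dimension. -/
theorem topologicalKrullDim_boundary_lt [QuasiCompact X.hom] [QuasiSeparatedSpace X.left] :
    topologicalKrullDim ↥(closure (orbit a x) \ orbit a x) < topologicalKrullDim ↥(orbit a x) := by
  classical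
  have : Subsingleton (Spec (CommRingCat.of k)) := inferInstanceAs (Subsingleton (PrimeSpectrum k))
  obtain ⟨_, _⟩ := orbitMap_props a x
  set O := orbit a x
  let p := IsLocalRing.closedPoint k
  have hO : IsLocallyClosed O := isLocallyClosed_orbit' a x
  have hB : IsClosed (closure O \ O) := by
    obtain ⟨U, C, hU, hC, e⟩ := hO
    have : closure O \ O = closure O ∩ Uᶜ := by
      ext y
      refine ⟨fun hy => ⟨hy.1, fun hyU => hy.2 (e ▸ ⟨hyU, ?_⟩)⟩, fun hy => ⟨hy.1, fun hyO => hy.2 ((e ▸ hyO : y ∈ U ∩ C).1)⟩⟩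
      exact closure_minimal (e ▸ Set.inter_subset_right) hC hy.1
    rw [this]
    exact isClosed_closure.inter hU.isClosed_compl
  have hfib : ∀ A : Set X.left, topologicalKrullDim ↥A = topologicalKrullDim ↥(A ∩ X.hom ⁻¹' {p}) := by
    intro A
    rw [show A ∩ X.hom ⁻¹' {p} = A from Set.inter_eq_left.2 fun y _ =>
      Subsingleton.elim (α := Spec (CommRingCat.of k)) _ _]
  obtain ⟨E, hE⟩ := exists_chainsLE_univ (X := X) p
  have h0 : HasChain X.hom O p 0 :=
    ⟨fun _ => (a.orbitMap x).left (η[G].left p),
      fun _ => ⟨⟨_, rfl⟩, Subsingleton.elim _ _⟩, fun i => i.elim0⟩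
  let d := Nat.findGreatest (fun m => HasChain X.hom O p m) E
  have hd : HasChain X.hom O p d :=
    Nat.findGreatest_spec (P := fun m => HasChain X.hom O p m) (Nat.zero_le E) h0
  have hle : ∀ m, HasChain X.hom O p m → m ≤ d := fun m hm =>
    Nat.le_findGreatest ((hm.mono (Set.subset_univ _)).le hE) hm
  have key : ∀ m, HasChain X.hom (closure O \ O) p m → m + 1 ≤ d := by
    rintro m ⟨c, hc, hc'⟩
    refine hle _ ?_
    obtain ⟨g, hg⟩ := DomLib.exists_specializes (a.orbitMap x).left (hc 0).1.1
    set ζ := (a.orbitMap x).left g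
    have hζ : ζ ∈ O := ⟨g, rfl⟩
    have hne : ζ ≠ c 0 := fun e => (hc 0).1.2 (e ▸ hζ)
    have hch : HasChain X.hom (closure {ζ}) p (m + 1) := by
      refine ⟨Fin.cons ζ c, fun i => ⟨?_, Subsingleton.elim _ _⟩, fun i => ?_⟩
      · refine Fin.cases ?_ (fun j => ?_) i
        · simp [subset_closure (Set.mem_singleton ζ)]
        · simpa using! specializes_iff_mem_closure.1 (hg.trans (specializes_of_chain c hc' j))
      · refine Fin.cases ?_ (fun j => ?_) i
        · simpa using! ⟨hg, hne⟩
        · simpa [Fin.castSucc_succ] using! hc' j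
    obtain ⟨U, C, hU, hC, e⟩ := hO
    have hζU : ζ ∈ U := (e ▸ hζ : ζ ∈ U ∩ C).1
    have hp : X.hom ζ = p := Subsingleton.elim _ _
    rw [← hp] at hch ⊢
    refine (hch.of_specializes specializes_rfl (U := ⟨U, hU⟩) hζU).mono fun y hy => ?_
    rw [e]
    exact ⟨hy.1, closure_minimal (Set.singleton_subset_iff.2 (e ▸ hζ : ζ ∈ U ∩ C).2) hC hy.2⟩
  have hdO : ((d : ℕ) : WithBot ℕ∞) ≤ topologicalKrullDim ↥O := by
    rw [hfib]
    exact (natCast_le_topologicalKrullDim_inter_iff X.hom hO p).2 hd
  rw [hfib (closure O \ O)]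
  rcases Nat.eq_zero_or_pos d with h | h
  · have hempty : closure O \ O = ∅ := by
      rw [Set.eq_empty_iff_forall_notMem]
      intro y hy
      have := key 0 ⟨fun _ => y, fun _ => ⟨hy, Subsingleton.elim _ _⟩, fun i => i.elim0⟩
      omega
    have hbot : topologicalKrullDim ↥((closure O \ O) ∩ X.hom ⁻¹' {p}) = ⊥ := by
      have : IsEmpty ↥((closure O \ O) ∩ X.hom ⁻¹' {p}) := by
        rw [hempty, Set.empty_inter]; infer_instance
      refine Order.krullDim_eq_bot_iff.2 ⟨fun s => ?_⟩
      exact this.false ⟨_, s.2.nonempty.some.2⟩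
    rw [hbot]
    exact lt_of_lt_of_le (WithBot.bot_lt_coe _) hdO
  · refine lt_of_le_of_lt ((topologicalKrullDim_inter_le_iff X.hom hB.isLocallyClosed p (e := d - 1)).2
      fun m c hc hc' => ?_) (lt_of_lt_of_le ?_ hdO)
    · have := key m ⟨c, hc, hc'⟩
      omega
    · exact_mod_cast Nat.sub_one_lt h.ne'

/-- Orbits of minimal dimension are closed. -/
theorem isClosed_orbit_of_minimal [IsAlgClosed k] [QuasiCompact X.hom] [QuasiSeparatedSpace X.left]
    (hmin : ∀ y : 𝟙_ (Over (Spec (CommRingCat.of k))) ⟶ X,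
      topologicalKrullDim (orbit a x) ≤ topologicalKrullDim (orbit a y)) :
    IsClosed (orbit a x) := by
  have : Subsingleton (Spec (CommRingCat.of k)) := inferInstanceAs (Subsingleton (PrimeSpectrum k))
  have : JacobsonSpace X.left := LocallyOfFiniteType.jacobsonSpace X.hom
  by_contra hncl
  obtain ⟨y₀, hy₀⟩ : (closure (orbit a x) \ orbit a x).Nonempty := by
    rw [Set.sdiff_nonempty]
    exact fun h => hncl (isClosed_of_closure_subset h)
  have hlc : IsLocallyClosed (closure (orbit a x) \ orbit a x) := by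
    obtain ⟨U, C, hU, hC, e⟩ := isLocallyClosed_orbit' a x
    have : closure (orbit a x) \ orbit a x = closure (orbit a x) ∩ Uᶜ := by
      ext y
      refine ⟨fun hy => ⟨hy.1, fun hyU => hy.2 (e ▸ ⟨hyU, ?_⟩)⟩,
        fun hy => ⟨hy.1, fun hyO => hy.2 ((e ▸ hyO : y ∈ U ∩ C).1)⟩⟩
      exact closure_minimal (e ▸ Set.inter_subset_right) hC hy.1
    rw [this]
    exact (isClosed_closure.inter hU.isClosed_compl).isLocallyClosed
  obtain ⟨y, hy, hyc⟩ := nonempty_inter_closedPoints ⟨y₀, hy₀⟩ hlc
  let z : 𝟙_ (Over (Spec (CommRingCat.of k))) ⟶ X :=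
    Over.homMk (pointOfClosedPoint X.hom y hyc) (pointOfClosedPoint_comp X.hom y hyc)
  obtain ⟨s⟩ : Nonempty (𝟙_ (Over (Spec (CommRingCat.of k)))).left :=
    inferInstanceAs (Nonempty (PrimeSpectrum k))
  have hz : z.left s = y := pointOfClosedPoint_apply X.hom y hyc s
  have hsub := orbit_subset_boundary a x z s (hz ▸ hy)
  have h1 : topologicalKrullDim (orbit a z) ≤ topologicalKrullDim ↥(closure (orbit a x) \ orbit a x) :=
    Topology.IsInducing.topologicalKrullDim_le (f := Set.inclusion hsub)
      (Topology.IsEmbedding.inclusion hsub).isInducing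
  exact (topologicalKrullDim_boundary_lt a x).not_ge ((hmin z).trans h1)

end Groth.Agent.GrpAct
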