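import Groth.Agent.GrpAct.Separated

/-!
# Separatedness near points moved into separated opens by an open family of group elements
-/

universe u

open CategoryTheory CategoryTheory.Limits MonoidalCategory CartesianMonoidalCategory MonObj AlgebraicGeometry

namespace Groth.Agent.GrpAct

variable {S : Scheme.{u}} {G X : Over S} [GrpObj G]

/-- A point of the closure of the diagonal which can be moved into a separated open, by a group
element at which the projection is open, lies on the diagonal. -/
theorem mem_diagonal_of_translate (a : AlgGrp.Action G X) {z : (X ⊗ X).left}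
    (hz : z ∈ closure (Set.range (pullback.diagonal X.hom)))
    (U : X.left.Opens) (hU : IsSeparated (U.ι ≫ X.hom))
    {o : (G ⊗ (X ⊗ X)).left} (hoz : (snd G (X ⊗ X)).left o = z)
    (ho1 : (lift (fst G (X ⊗ X)) (snd G (X ⊗ X) ≫ fst X X) ≫ a.act).left o ∈ U)
    (ho2 : (lift (fst G (X ⊗ X)) (snd G (X ⊗ X) ≫ snd X X) ≫ a.act).left o ∈ U)
    (hopen : ∀ E : Set (G ⊗ (X ⊗ X)).left, IsOpen E → o ∈ E →
      (snd G (X ⊗ X)).left '' E ∈ nhds z) :
    z ∈ Set.range (pullback.diagonal X.hom) := by
  let P := G ⊗ (X ⊗ X)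
  let m₁ : P ⟶ X := lift (fst G (X ⊗ X)) (snd G (X ⊗ X) ≫ fst X X) ≫ a.act
  let m₂ : P ⟶ X := lift (fst G (X ⊗ X)) (snd G (X ⊗ X) ≫ snd X X) ≫ a.act
  let m : P ⟶ X ⊗ X := lift m₁ m₂
  let D : Set (X ⊗ X).left := Set.range (pullback.diagonal X.hom)
  -- the closure of the diagonal within a separated open is the diagonal
  let UU := pullback (U.ι ≫ X.hom) (U.ι ≫ X.hom)
  let j : UU ⟶ (X ⊗ X).left := pullback.map (U.ι ≫ X.hom) (U.ι ≫ X.hom) X.hom X.hom U.ι U.ι (𝟙 _)
    (by simp) (by simp)
  have hj : Set.range j = (fst X X).left ⁻¹' U ∩ (snd X X).left ⁻¹' U := by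
    rw [Scheme.Pullback.range_map, Scheme.Opens.range_ι]
    rfl
  have hD : ∀ w : (X ⊗ X).left, (fst X X).left w ∈ U → (snd X X).left w ∈ U → w ∈ closure D → w ∈ D := by
    intro w h1 h2 hw
    obtain ⟨w', rfl⟩ : w ∈ Set.range j := hj ▸ ⟨h1, h2⟩
    have hd : pullback.diagonal (U.ι ≫ X.hom) ≫ j = U.ι ≫ pullback.diagonal X.hom := by
      apply pullback.hom_ext <;> simp only [j, pullback.map, Category.assoc, pullback.lift_fst, pullback.lift_snd, pullback.diagonal_fst, pullback.diagonal_snd, pullback.diagonal_fst_assoc, pullback.diagonal_snd_assoc, Category.comp_id]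
    have hsub : j ⁻¹' D ⊆ Set.range (pullback.diagonal (U.ι ≫ X.hom)) := by
      rintro v ⟨x, hx⟩
      have hxU : x ∈ U := by
        have h3 : (fst X X).left (j v) ∈ U := (hj.subset ⟨v, rfl⟩).1
        rw [← hx] at h3
        change (pullback.fst X.hom X.hom) (pullback.diagonal X.hom x) ∈ U at h3
        rwa [← Scheme.Hom.comp_apply, pullback.diagonal_fst] at h3
      refine ⟨⟨x, hxU⟩, j.isOpenEmbedding.injective ?_⟩
      rw [← hx, ← Scheme.Hom.comp_apply, hd]
      rfl
    have : w' ∈ closure (j ⁻¹' D) := by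
      rw [← j.isOpenEmbedding.isOpenMap.preimage_closure_eq_closure_preimage j.continuous]
      exact hw
    obtain ⟨x, hx⟩ := (pullback.diagonal (U.ι ≫ X.hom)).isClosedEmbedding.isClosed_range.closure_subset
      (closure_mono hsub this)
    exact ⟨U.ι x, by rw [← Scheme.Hom.comp_apply, ← hd, Scheme.Hom.comp_apply, hx]⟩
  -- along the open set of group elements, diagonal points correspond to diagonal points
  have hpt : ∀ p : P.left, (snd G (X ⊗ X)).left p ∈ D ↔ m.left p ∈ D := by
    intro p
    let T : Over S := Over.mk (P.left.fromSpecResidueField p ≫ P.hom)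
    let w : T ⟶ P := Over.homMk (P.left.fromSpecResidueField p)
    have hw : ∀ t, w.left t = p := fun t => Scheme.fromSpecResidueField_apply p t
    let g := w ≫ fst G (X ⊗ X)
    let x := w ≫ snd G (X ⊗ X) ≫ fst X X
    let y := w ≫ snd G (X ⊗ X) ≫ snd X X
    let t₀ : T.left := IsLocalRing.closedPoint (P.left.residueField p)
    constructor
    · rintro ⟨d, hd⟩
      obtain ⟨z', hz1, hz2⟩ := Scheme.Pullback.exists_preimage_pullback (f := pullback.diagonal X.hom)
        (g := (w ≫ snd G (X ⊗ X)).left) d t₀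
        (by rw [hd, Over.comp_left, Scheme.Hom.comp_apply, hw])
      let T' : Over S := Over.mk ((pullback.snd (pullback.diagonal X.hom) (w ≫ snd G (X ⊗ X)).left) ≫ T.hom)
      let v : T' ⟶ T := Over.homMk (pullback.snd _ _)
      have hxy : v ≫ x = v ≫ y := by
        have h : (v ≫ w ≫ snd G (X ⊗ X)).left =
            pullback.fst (pullback.diagonal X.hom) (w ≫ snd G (X ⊗ X)).left ≫ pullback.diagonal X.hom := by
          rw [Over.comp_left]; exact pullback.condition.symm
        ext1
        simp only [x, y, Over.comp_left, ← Category.assoc] at h ⊢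
        rw [h]
        change (_ ≫ pullback.diagonal X.hom) ≫ pullback.fst X.hom X.hom =
          (_ ≫ pullback.diagonal X.hom) ≫ pullback.snd X.hom X.hom
        simp
      have key : v ≫ w ≫ m = lift (lift (v ≫ g) (v ≫ x) ≫ a.act) (lift (v ≫ g) (v ≫ x) ≫ a.act) := by
        apply CartesianMonoidalCategory.hom_ext
        · simp [m, m₁, g, x, comp_smul]
        · rw [hxy]; simp [m, m₂, g, y, comp_smul]
      refine ⟨(lift (v ≫ g) (v ≫ x) ≫ a.act).left z', ?_⟩
      have h2 : m.left p = (v ≫ w ≫ m).left z' := by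
        rw [Over.comp_left, Over.comp_left, Scheme.Hom.comp_apply, Scheme.Hom.comp_apply, hw]
      rw [h2, key, ← Scheme.Hom.comp_apply]
      refine congrArg (fun k : T'.left ⟶ (X ⊗ X).left => k z') ?_
      apply pullback.hom_ext
      · rw [Category.assoc, pullback.diagonal_fst, Category.comp_id]
        exact congrArg (fun k : T' ⟶ X => k.left) (lift_fst _ _).symm
      · rw [Category.assoc, pullback.diagonal_snd, Category.comp_id]
        exact congrArg (fun k : T' ⟶ X => k.left) (lift_snd _ _).symm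
    · rintro ⟨d, hd⟩
      obtain ⟨z', hz1, hz2⟩ := Scheme.Pullback.exists_preimage_pullback (f := pullback.diagonal X.hom)
        (g := (w ≫ m).left) d t₀ (by rw [hd, Over.comp_left, Scheme.Hom.comp_apply, hw])
      let T' : Over S := Over.mk ((pullback.snd (pullback.diagonal X.hom) (w ≫ m).left) ≫ T.hom)
      let v : T' ⟶ T := Over.homMk (pullback.snd _ _)
      have hxy : lift (v ≫ g) (v ≫ x) ≫ a.act = lift (v ≫ g) (v ≫ y) ≫ a.act := by
        have h : (v ≫ w ≫ m).left =
            pullback.fst (pullback.diagonal X.hom) (w ≫ m).left ≫ pullback.diagonal X.hom := by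
          rw [Over.comp_left]; exact pullback.condition.symm
        have h1 : (v ≫ w ≫ m) ≫ fst X X = (v ≫ w ≫ m) ≫ snd X X := by
          ext1
          simp only [Over.comp_left, ← Category.assoc] at h ⊢
          rw [h]
          change (_ ≫ pullback.diagonal X.hom) ≫ pullback.fst X.hom X.hom =
            (_ ≫ pullback.diagonal X.hom) ≫ pullback.snd X.hom X.hom
          simp
        simpa [m, m₁, m₂, g, x, y, comp_smul] using h1
      have hxy' : v ≫ x = v ≫ y := by
        have := congrArg (fun k => lift (v ≫ g)⁻¹ k ≫ a.act) hxy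
        simpa [← mul_smul, one_smul'] using this
      refine ⟨(v ≫ x).left z', ?_⟩
      have h2 : (snd G (X ⊗ X)).left p = (v ≫ w ≫ snd G (X ⊗ X)).left z' := by
        rw [Over.comp_left, Over.comp_left, Scheme.Hom.comp_apply, Scheme.Hom.comp_apply, hw]
      rw [h2, show v ≫ w ≫ snd G (X ⊗ X) = lift (v ≫ x) (v ≫ x) by
        apply CartesianMonoidalCategory.hom_ext
        · simp [x]
        · rw [hxy']; simp [y], ← Scheme.Hom.comp_apply]
      refine congrArg (fun k : T'.left ⟶ (X ⊗ X).left => k z') ?_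
      apply pullback.hom_ext
      · rw [Category.assoc, pullback.diagonal_fst, Category.comp_id]
        exact congrArg (fun k : T' ⟶ X => k.left) (lift_fst _ _).symm
      · rw [Category.assoc, pullback.diagonal_snd, Category.comp_id]
        exact congrArg (fun k : T' ⟶ X => k.left) (lift_snd _ _).symm
  -- conclusion
  let E : Set P.left := m₁.left ⁻¹' U ∩ m₂.left ⁻¹' U ∩ m.left ⁻¹' (closure D)ᶜ
  by_contra hzD
  have hm1 : ∀ p, (fst X X).left (m.left p) = m₁.left p := fun p => by
    rw [← Scheme.Hom.comp_apply, ← Over.comp_left, lift_fst]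
  have hm2 : ∀ p, (snd X X).left (m.left p) = m₂.left p := fun p => by
    rw [← Scheme.Hom.comp_apply, ← Over.comp_left, lift_snd]
  have hoE : o ∈ E := ⟨⟨ho1, ho2⟩, fun hc => hzD (hoz ▸ (hpt o).2
    (hD _ (by rw [hm1]; exact ho1) (by rw [hm2]; exact ho2) hc))⟩
  have hEo : IsOpen E := ((U.2.preimage m₁.left.continuous).inter
    (U.2.preimage m₂.left.continuous)).inter (isClosed_closure.isOpen_compl.preimage m.left.continuous)
  obtain ⟨O, hO, hOo, hzO⟩ := mem_nhds_iff.1 (hopen E hEo hoE)
  obtain ⟨q, hqO, hqD⟩ := mem_closure_iff.1 hz O hOo hzO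
  obtain ⟨p, hp, rfl⟩ := hO hqO
  exact hp.2 (subset_closure ((hpt p).1 hqD))

/-- An open on whose square the closure of the diagonal is the diagonal is separated. -/
theorem isSeparated_opens (X : Over S) (V : X.left.Opens)
    (H : ∀ z : (X ⊗ X).left, z ∈ closure (Set.range (pullback.diagonal X.hom)) →
      (fst X X).left z ∈ V → (snd X X).left z ∈ V → z ∈ Set.range (pullback.diagonal X.hom)) :
    IsSeparated (V.ι ≫ X.hom) := by
  refine ⟨IsClosedImmersion.of_isPreimmersion _ (isClosed_of_closure_subset fun v hv => ?_)⟩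
  let j : pullback (V.ι ≫ X.hom) (V.ι ≫ X.hom) ⟶ (X ⊗ X).left :=
    pullback.map (V.ι ≫ X.hom) (V.ι ≫ X.hom) X.hom X.hom V.ι V.ι (𝟙 _) (by simp) (by simp)
  have hj : Set.range j = (fst X X).left ⁻¹' V ∩ (snd X X).left ⁻¹' V := by
    rw [Scheme.Pullback.range_map, Scheme.Opens.range_ι]
    rfl
  have hd : pullback.diagonal (V.ι ≫ X.hom) ≫ j = V.ι ≫ pullback.diagonal X.hom := by
    apply pullback.hom_ext <;> simp only [j, pullback.map, Category.assoc, pullback.lift_fst, pullback.lift_snd, pullback.diagonal_fst, pullback.diagonal_snd, pullback.diagonal_fst_assoc, pullback.diagonal_snd_assoc, Category.comp_id]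
  have hjv : j v ∈ closure (Set.range (pullback.diagonal X.hom)) := by
    refine closure_mono ?_ (image_closure_subset_closure_image j.continuous ⟨v, hv, rfl⟩)
    rintro _ ⟨_, ⟨x, rfl⟩, rfl⟩
    exact ⟨V.ι x, by rw [← Scheme.Hom.comp_apply, ← hd, Scheme.Hom.comp_apply]⟩
  obtain ⟨x, hx⟩ := H (j v) hjv (hj.subset ⟨v, rfl⟩).1 (hj.subset ⟨v, rfl⟩).2
  have hxV : x ∈ V := by
    have h3 : (fst X X).left (j v) ∈ V := (hj.subset ⟨v, rfl⟩).1
    rw [← hx] at h3
    change (pullback.fst X.hom X.hom) (pullback.diagonal X.hom x) ∈ V at h3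
    rwa [← Scheme.Hom.comp_apply, pullback.diagonal_fst] at h3
  refine ⟨⟨x, hxV⟩, j.isOpenEmbedding.injective ?_⟩
  rw [← hx, ← Scheme.Hom.comp_apply, hd]
  rfl

end Groth.Agent.GrpAct
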