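import Groth.Agent.GrpAct.Basic
import Groth.Prelude.Def_Grpd
import Mathlib.CategoryTheory.Monoidal.Cartesian.Over

/-! # The groupoid scheme of an action -/

universe u

open CategoryTheory CategoryTheory.Limits MonoidalCategory CartesianMonoidalCategory MonObj AlgebraicGeometry

namespace Groth.Agent.GrpAct

variable {S : Scheme.{u}} {G X : Over S} [GrpObj G] (a : AlgGrp.Action G X)

/-- composable pairs, over the base -/
noncomputable def pairs : Over S :=
  Over.mk (pullback.fst (snd G X).left a.act.left ≫ (G ⊗ X).hom)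

noncomputable def pair₁ : pairs a ⟶ G ⊗ X :=
  Over.homMk (pullback.fst (snd G X).left a.act.left) rfl

noncomputable def pair₂ : pairs a ⟶ G ⊗ X :=
  Over.homMk (pullback.snd (snd G X).left a.act.left) (by
    change _ = pullback.fst (snd G X).left a.act.left ≫ (G ⊗ X).hom
    conv_lhs => rw [← Over.w a.act]
    conv_rhs => rw [← Over.w (snd G X)]
    exact (pullback.condition_assoc X.hom).symm)

noncomputable def compHom : pairs a ⟶ G ⊗ X :=
  lift ((pair₁ a ≫ fst G X) * (pair₂ a ≫ fst G X)) (pair₂ a ≫ snd G X)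

lemma lift_comp_eq {T : Over S} (α β : T ⟶ G ⊗ X)
    (h : α.left ≫ (snd G X).left = β.left ≫ a.act.left) :
    pullback.lift α.left β.left h ≫ (compHom a).left =
      (lift ((α ≫ fst G X) * (β ≫ fst G X)) (β ≫ snd G X)).left := by
  let k : T ⟶ pairs a := Over.homMk (pullback.lift α.left β.left h) (by
    change pullback.lift α.left β.left h ≫ pullback.fst (snd G X).left a.act.left ≫ (G ⊗ X).hom = _
    rw [pullback.lift_fst_assoc, Over.w α])
  have h1 : k ≫ pair₁ a = α := Over.OverMorphism.ext (pullback.lift_fst _ _ _)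
  have h2 : k ≫ pair₂ a = β := Over.OverMorphism.ext (pullback.lift_snd _ _ _)
  change (k ≫ compHom a).left = _
  simp only [compHom, comp_lift, comp_mul, reassoc_of% h1, reassoc_of% h2]

/-- promote a pair of composable points -/
lemma exists_over {T : Scheme.{u}} (α β : T ⟶ (G ⊗ X).left)
    (h : α ≫ (snd G X).left = β ≫ a.act.left) :
    ∃ (T' : Over S) (e : T'.left = T) (α' β' : T' ⟶ G ⊗ X),
      α'.left = eqToHom e ≫ α ∧ β'.left = eqToHom e ≫ β :=
  ⟨Over.mk (α ≫ (G ⊗ X).hom), rfl, Over.homMk α rfl,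
    Over.homMk β (by
      change β ≫ (G ⊗ X).hom = α ≫ (G ⊗ X).hom
      conv_lhs => rw [← Over.w a.act, ← Category.assoc, ← h, Category.assoc, Over.w (snd G X)]),
    (Category.id_comp _).symm, (Category.id_comp _).symm⟩

lemma act_pair {T : Over S} (α β : T ⟶ G ⊗ X) (h : α ≫ snd G X = β ≫ a.act) :
    lift ((α ≫ fst G X) * (β ≫ fst G X)) (β ≫ snd G X) ≫ a.act = α ≫ a.act := by
  rw [mul_smul, ← comp_lift, lift_fst_snd, Category.comp_id, ← h, ← comp_lift, lift_fst_snd,
    Category.comp_id]

/-- the groupoid of an action -/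
noncomputable def groupoid : Grpd.GroupoidScheme S where
  U := X.left
  R := (G ⊗ X).left
  pU := X.hom
  pR := (G ⊗ X).hom
  s := (snd G X).left
  t := a.act.left
  e := (lift (toUnit X ≫ η[G]) (𝟙 X)).left
  i := (lift (fst G X)⁻¹ a.act).left
  c := (compHom a).left
  s_over := Over.w _
  t_over := Over.w _
  comp_s {T} α β h := by
    obtain ⟨T', rfl, α', β', hα, hβ⟩ := exists_over a α β h
    rw [eqToHom_refl, Category.id_comp] at hα hβ
    subst hα hβ
    rw [lift_comp_eq a α' β' h, ← Over.comp_left, lift_snd, ← Over.comp_left]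
  comp_t {T} α β h := by
    obtain ⟨T', rfl, α', β', hα, hβ⟩ := exists_over a α β h
    rw [eqToHom_refl, Category.id_comp] at hα hβ
    subst hα hβ
    rw [lift_comp_eq a α' β' h, ← Over.comp_left, act_pair a α' β' (Over.OverMorphism.ext h),
      ← Over.comp_left]
  assoc {T} α β γ h₁ h₂ := by
    obtain ⟨T', rfl, α', β', hα, hβ⟩ := exists_over a α β h₁
    rw [eqToHom_refl, Category.id_comp] at hα hβ
    subst hα hβ
    have hγ : γ ≫ (G ⊗ X).hom = T'.hom := by
      rw [← Over.w a.act, ← Category.assoc, ← h₂, ← Over.comp_left, Over.w]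
    let γ' : T' ⟶ G ⊗ X := Over.homMk γ hγ
    let αβ := lift ((α' ≫ fst G X) * (β' ≫ fst G X)) (β' ≫ snd G X)
    let βγ := lift ((β' ≫ fst G X) * (γ' ≫ fst G X)) (γ' ≫ snd G X)
    have e₁ : αβ.left = pullback.lift α'.left β'.left h₁ ≫ (compHom a).left :=
      (lift_comp_eq a α' β' h₁).symm
    have e₂ : βγ.left = pullback.lift β'.left γ h₂ ≫ (compHom a).left :=
      (lift_comp_eq a β' γ' h₂).symm
    have h₃ : αβ ≫ snd G X = γ' ≫ a.act := by
      rw [lift_snd]; exact Over.OverMorphism.ext h₂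
    have h₄ : α' ≫ snd G X = βγ ≫ a.act := by
      rw [act_pair a β' γ' (Over.OverMorphism.ext h₂)]; exact Over.OverMorphism.ext h₁
    have l := lift_comp_eq a αβ γ' congr(($h₃).left)
    have r := lift_comp_eq a α' βγ congr(($h₄).left)
    simp only [αβ, βγ, lift_fst, lift_snd, _root_.mul_assoc] at l r
    rw [← r] at l
    convert l using 3 <;> first | exact e₁.symm | exact e₂.symm | rfl
  e_s := by rw [← Over.comp_left, lift_snd]; rfl
  e_t := by rw [← Over.comp_left, one_smul]; rfl
  comp_e {T} α := by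
    let α' : Over.mk (α ≫ (G ⊗ X).hom) ⟶ G ⊗ X := Over.homMk α rfl
    let ε := α' ≫ snd G X ≫ lift (toUnit X ≫ η[G]) (𝟙 X)
    have h : α' ≫ snd G X = ε ≫ a.act := by
      simp [ε, one_smul]
    have l := lift_comp_eq a α' ε congr(($h).left)
    have e : ε.left = α ≫ (snd G X).left ≫ (lift (toUnit X ≫ η[G]) (𝟙 X)).left := rfl
    have h1 : lift ((α' ≫ fst G X) * (ε ≫ fst G X)) (ε ≫ snd G X) = α' := by
      have : ε ≫ fst G X = 1 := by
        simp only [ε, Category.assoc, lift_fst, Hom.one_def]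
        rw [← Category.assoc, ← Category.assoc, toUnit_unique ((α' ≫ snd G X) ≫ toUnit X) (toUnit _)]
      rw [this, _root_.mul_one]
      apply CartesianMonoidalCategory.hom_ext <;> simp [ε]
    rw [h1] at l
    exact l
  e_comp {T} α := by
    let α' : Over.mk (α ≫ (G ⊗ X).hom) ⟶ G ⊗ X := Over.homMk α rfl
    let ε := α' ≫ a.act ≫ lift (toUnit X ≫ η[G]) (𝟙 X)
    have h : ε ≫ snd G X = α' ≫ a.act := by simp [ε]
    have l := lift_comp_eq a ε α' congr(($h).left)
    have h1 : lift ((ε ≫ fst G X) * (α' ≫ fst G X)) (α' ≫ snd G X) = α' := by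
      have : ε ≫ fst G X = 1 := by
        simp only [ε, Category.assoc, lift_fst, Hom.one_def]
        rw [← Category.assoc, ← Category.assoc, toUnit_unique ((α' ≫ a.act) ≫ toUnit X) (toUnit _)]
      rw [this, _root_.one_mul]
      apply CartesianMonoidalCategory.hom_ext <;> simp
    rw [h1] at l
    exact l
  i_s := by rw [← Over.comp_left, lift_snd]
  i_t := by
    rw [← Over.comp_left]
    congr 1
    calc lift (fst G X)⁻¹ a.act ≫ a.act
        = lift (fst G X)⁻¹ (lift (fst G X) (snd G X) ≫ a.act) ≫ a.act := by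
          rw [lift_fst_snd, Category.id_comp]
      _ = snd G X := by rw [← mul_smul, inv_mul_cancel, one_smul']
  comp_i {T} α := by
    let α' : Over.mk (α ≫ (G ⊗ X).hom) ⟶ G ⊗ X := Over.homMk α rfl
    let β := α' ≫ lift (fst G X)⁻¹ a.act
    have hbt : lift (fst G X)⁻¹ a.act ≫ a.act = snd G X := by
      calc lift (fst G X)⁻¹ a.act ≫ a.act
          = lift (fst G X)⁻¹ (lift (fst G X) (snd G X) ≫ a.act) ≫ a.act := by
            rw [lift_fst_snd, Category.id_comp]
        _ = snd G X := by rw [← mul_smul, inv_mul_cancel, one_smul']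
    have h : α' ≫ snd G X = β ≫ a.act := by rw [Category.assoc, hbt]
    have l := lift_comp_eq a α' β congr(($h).left)
    have h1 : lift ((α' ≫ fst G X) * (β ≫ fst G X)) (β ≫ snd G X) =
        α' ≫ a.act ≫ lift (toUnit X ≫ η[G]) (𝟙 X) := by
      simp only [β, Category.assoc, lift_fst, lift_snd, GrpObj.comp_inv, mul_inv_cancel]
      apply CartesianMonoidalCategory.hom_ext
      · simp only [lift_fst, Category.assoc, Hom.one_def]
        rw [← Category.assoc, ← Category.assoc, toUnit_unique ((α' ≫ a.act) ≫ toUnit X) (toUnit _)]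
      · simp
    rw [h1] at l
    exact l
  i_comp {T} α := by
    let α' : Over.mk (α ≫ (G ⊗ X).hom) ⟶ G ⊗ X := Over.homMk α rfl
    let β := α' ≫ lift (fst G X)⁻¹ a.act
    have h : β ≫ snd G X = α' ≫ a.act := by simp [β]
    have l := lift_comp_eq a β α' congr(($h).left)
    have h1 : lift ((β ≫ fst G X) * (α' ≫ fst G X)) (α' ≫ snd G X) =
        α' ≫ snd G X ≫ lift (toUnit X ≫ η[G]) (𝟙 X) := by
      simp only [β, Category.assoc, lift_fst, GrpObj.comp_inv, inv_mul_cancel]
      apply CartesianMonoidalCategory.hom_ext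
      · simp only [lift_fst, Category.assoc, Hom.one_def]
        rw [← Category.assoc, ← Category.assoc, toUnit_unique ((α' ≫ snd G X) ≫ toUnit X) (toUnit _)]
      · simp
    rw [h1] at l
    exact l

end Groth.Agent.GrpAct
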