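import Groth.Agent.GrpAct.GeomQuot
import Groth.Agent.FpqcDescent.Affine
import Groth.Prelude.Def_NonAbH2
import Mathlib.AlgebraicGeometry.Morphisms.FlatDescent

/-! # The structure map of a torsor over a field base -/

universe u

open CategoryTheory CategoryTheory.Limits MonoidalCategory CartesianMonoidalCategory MonObj AlgebraicGeometry

namespace Groth.Agent.TorsorMap

variable {S : Scheme.{u}} {G X Y : Over S} [GrpObj G] (a : AlgGrp.Action G X) (φ : X ⟶ Y)

/-- properties of `G` descend to the torsor map -/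
theorem descend (P : MorphismProperty Scheme.{u}) [IsZariskiLocalAtTarget P]
    [P.IsStableUnderBaseChange] [P.DescendsAlong (@Surjective ⊓ @Flat ⊓ @QuasiCompact)]
    (hG : P G.hom) (hcart : IsPullback a.act (snd G X) φ φ)
    (hloc : NonAbH1.IsLocallyTrivialFor Scheme.fpqcPrecoverage (Over.mk φ.left : Over Y.left)) :
    P φ.left := by
  obtain ⟨R, hR, hsec⟩ := hloc
  refine FpqcDescent.of_fpqcPrecoverage P φ.left hR fun S' f hf => ?_
  obtain ⟨σ, hσ⟩ := hsec f hf
  have hσ' : σ ≫ φ.left = f := hσ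
  have e := (IsPullback.of_hasPullback (snd G X).left σ).paste_horiz
    (QuotShLib.left_of_isKernelPair hcart)
  rw [hσ'] at e
  have h1 : P (snd G X).left := P.pullback_snd _ _ hG
  exact (MorphismProperty.arrow_mk_iso_iff P (Arrow.isoMk e.isoPullback (Iso.refl _))).1
    (P.pullback_snd _ _ h1)

/-- torsors are surjective -/
theorem surjective
    (hloc : NonAbH1.IsLocallyTrivialFor Scheme.fpqcPrecoverage (Over.mk φ.left : Over Y.left)) :
    Surjective φ.left := by
  obtain ⟨R, hR, hsec⟩ := hloc
  obtain ⟨𝒰, -, rfl⟩ := Scheme.mem_propQCPrecoverage_iff_exists_quasiCompactCover.mp hR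
  refine ⟨fun y => ?_⟩
  obtain ⟨i, z, rfl⟩ := 𝒰.exists_eq y
  obtain ⟨σ, hσ⟩ := hsec _ (Presieve.ofArrows.mk i)
  exact ⟨σ z, by rw [← Scheme.Hom.comp_apply]; exact congr($hσ z)⟩

/-- over a field, a torsor under an affine group is affine, flat and surjective -/
theorem props {k : Type u} [Field k] {G X Y : Over (Spec (CommRingCat.of k))} [GrpObj G]
    [IsAffine G.left] (a : AlgGrp.Action G X) (φ : X ⟶ Y)
    (hcart : IsPullback a.act (snd G X) φ φ)
    (hloc : NonAbH1.IsLocallyTrivialFor Scheme.fpqcPrecoverage (Over.mk φ.left : Over Y.left)) :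
    IsAffineHom φ.left ∧ Flat φ.left ∧ Surjective φ.left :=
  ⟨descend a φ @IsAffineHom (isAffineHom_of_isAffine _) hcart hloc,
    descend a φ @Flat inferInstance hcart hloc, surjective φ hloc⟩

end Groth.Agent.TorsorMap
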