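import Groth.Agent.QuotShLib.Local
import Groth.Agent.GrpAct.Basic
import Groth.Prelude.Def_W4bk4git07Quot

/-! # fppf quotients are geometric quotients -/

universe u

open CategoryTheory CategoryTheory.Limits MonoidalCategory CartesianMonoidalCategory MonObj AlgebraicGeometry Opposite

namespace Groth.Agent.GeomQuot

/-- sections over an open as global functions on the open subscheme -/
noncomputable def res {X : Scheme.{u}} (V : X.Opens) : Γ(X, V) ⟶ Γ(V.toScheme, ⊤) :=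
  V.ι.appLE V ⊤ (by simp)

instance {X : Scheme.{u}} (V : X.Opens) : IsIso (res V) := by
  rw [res, Scheme.Opens.ι_appLE]
  have h : V.ι ''ᵁ (⊤ : V.toScheme.Opens) = V := V.ι_image_top
  rw [show (homOfLE (le_of_eq h) : V.ι ''ᵁ (⊤ : V.toScheme.Opens) ⟶ V) = eqToHom h from
    Subsingleton.elim _ _, eqToHom_op, eqToHom_map]
  exact (eqToIso (congrArg (fun W => X.presheaf.obj (op W)) h.symm)).isIso_hom

lemma res_injective {X : Scheme.{u}} (V : X.Opens) : Function.Injective (res V) :=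
  (ConcreteCategory.bijective_of_isIso (res V)).1

lemma res_natural {X Y : Scheme.{u}} (f : X ⟶ Y) (U : Y.Opens) (V : X.Opens) (e : V ≤ f ⁻¹ᵁ U)
    (s : Γ(Y, U)) : (f.resLE U V e).appTop (res U s) = res V (f.appLE U V e s) := by
  have key : res U ≫ (f.resLE U V e).appTop = f.appLE U V e ≫ res V := by
    rw [res, res, show (f.resLE U V e).appTop = (f.resLE U V e).appLE ⊤ ⊤ le_top from
      (Scheme.Hom.app_eq_appLE _), Scheme.Hom.appLE_comp_appLE, Scheme.Hom.appLE_comp_appLE]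
    congr 1
    exact Scheme.Hom.resLE_comp_ι f e
  exact congr($key s)

/-- the ring of functions on the affine line -/
noncomputable abbrev R0 : CommRingCat.{u} := CommRingCat.of (Polynomial (ULift.{u} ℤ))

/-- the function of a morphism to the affine line -/
noncomputable def ev {T : Scheme.{u}} (φ : T ⟶ Spec R0.{u}) : Γ(T, ⊤) :=
  φ.appTop ((Scheme.ΓSpecIso R0).inv Polynomial.X)

lemma ev_comp {T T' : Scheme.{u}} (g : T' ⟶ T) (φ : T ⟶ Spec R0.{u}) :
    ev (g ≫ φ) = g.appTop (ev φ) := by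
  rw [ev, ev, Scheme.Hom.comp_appTop]; rfl

lemma ringHom_ulift_int {R : Type u} [CommRing R] (f g : ULift.{u} ℤ →+* R) : f = g := by
  refine RingHom.ext fun ⟨n⟩ => ?_
  exact congr($(RingHom.ext_int (f.comp (ULift.ringEquiv (R := ℤ)).symm.toRingHom)
    (g.comp (ULift.ringEquiv (R := ℤ)).symm.toRingHom)) n)

lemma ev_injective {T : Scheme.{u}} : Function.Injective (ev (T := T)) := by
  intro φ ψ h
  refine ext_to_Spec ?_
  ext1
  exact Polynomial.ringHom_ext' (ringHom_ulift_int _ _) h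

lemma ev_surjective {T : Scheme.{u}} (s : Γ(T, ⊤)) : ∃ φ : T ⟶ Spec R0.{u}, ev φ = s := by
  let α : R0.{u} ⟶ Γ(T, ⊤) := CommRingCat.ofHom (Polynomial.eval₂RingHom
    ((Int.castRingHom Γ(T, ⊤)).comp (ULift.ringEquiv (R := ℤ)).toRingHom) s)
  refine ⟨T.toSpecΓ ≫ Spec.map α, ?_⟩
  have h : ((Scheme.ΓSpecIso R0).inv ≫ (T.toSpecΓ ≫ Spec.map α).appTop) = α := by
    rw [Scheme.Hom.comp_appTop, Scheme.toSpecΓ_appTop, ← Category.assoc,
      ← Scheme.ΓSpecIso_inv_naturality, Category.assoc, Iso.inv_hom_id, Category.comp_id]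
  refine (congr($h Polynomial.X)).trans ?_
  exact Polynomial.eval₂_X _ _

lemma appLE_congr_hom {X Y : Scheme.{u}} {f g : X ⟶ Y} (h : f = g) (U : Y.Opens) (V : X.Opens)
    (e : V ≤ f ⁻¹ᵁ U) (e' : V ≤ g ⁻¹ᵁ U) : f.appLE U V e = g.appLE U V e' := by
  subst h; rfl

/-- A map factoring a universally open surjection is universally submersive. -/
theorem univSubmersive_of_lift {X Y Z : Scheme.{u}} {q : X ⟶ Y} (c : Z ⟶ Y) [UniversallyOpen c]
    [Surjective c] (l : Z ⟶ X) (hl : l ≫ q = c) : GIT.IsUnivSubmersive q := by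
  intro X' Y' i₁ i₂ f' sq
  let k : pullback c i₂ ⟶ X' := sq.lift (pullback.snd c i₂) (pullback.fst c i₂ ≫ l)
    (by rw [Category.assoc, hl, pullback.condition])
  have hk : k ≫ f' = pullback.snd c i₂ := sq.lift_fst _ _ _
  have hc : Topology.IsQuotientMap (pullback.snd c i₂).base :=
    (pullback.snd c i₂).isOpenMap.isQuotientMap (pullback.snd c i₂).continuous
      (pullback.snd c i₂).surjective
  rw [← hk, Scheme.Hom.comp_base, TopCat.coe_comp] at hc
  exact Topology.IsQuotientMap.of_comp k.continuous f'.continuous hc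

variable {S : Scheme.{u}} {G X Y : Over S} [GrpObj G] (a : AlgGrp.Action G X) {q : X ⟶ Y}

lemma rel_act_equivalence (T : Over S) : Equivalence (QuotShLib.Rel a.act (snd G X) T) := by
  refine ⟨fun x => ⟨lift 1 x, GrpAct.one_smul' a x, lift_snd _ _⟩, ?_, ?_⟩
  · rintro x y ⟨r, rfl, rfl⟩
    refine ⟨lift (r ≫ fst G X)⁻¹ (r ≫ a.act), ?_, lift_snd _ _⟩
    have : r ≫ a.act = lift (r ≫ fst G X) (r ≫ snd G X) ≫ a.act := by rw [lift_comp_fst_snd]
    rw [this, ← GrpAct.mul_smul, inv_mul_cancel, GrpAct.one_smul']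
  · rintro x y z ⟨r, rfl, hy⟩ ⟨r', hy', rfl⟩
    refine ⟨lift ((r ≫ fst G X) * (r' ≫ fst G X)) (r' ≫ snd G X), ?_, lift_snd _ _⟩
    rw [GrpAct.mul_smul]
    have e1 : lift (r' ≫ fst G X) (r' ≫ snd G X) ≫ a.act = y := by rw [lift_comp_fst_snd, hy']
    rw [e1, ← hy, lift_comp_fst_snd]

/-- points of `X` with the same image are locally related by the action -/
def LocRel (q : X ⟶ Y) : Prop :=
  ∀ ⦃T : Over S⦄ (x₁ x₂ : T ⟶ X), x₁ ≫ q = x₂ ≫ q →
    ∃ (Z : Scheme.{u}) (g : Z ⟶ T.left) (r : Z ⟶ (G ⊗ X).left), Flat g ∧ Surjective g ∧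
      r ≫ a.act.left = g ≫ x₁.left ∧ r ≫ (snd G X).left = g ≫ x₂.left

theorem locRel_of_isQuotient
    (hq : QuotSh.IsQuotient Scheme.fppfPrecoverage a.act (snd G X) q) : LocRel a q := by
  intro T x₁ x₂ h
  obtain ⟨Z, g, r, h1, -, h2, h3, h4⟩ :=
    QuotShLib.exists_cover_rel hq (rel_act_equivalence a) x₁ x₂ h
  exact ⟨Z, g, r, h1, h2, h3, h4⟩

theorem locRel_of_isPullback (h : IsPullback a.act (snd G X) q q) : LocRel a q := by
  intro T x₁ x₂ hx
  exact ⟨T.left, 𝟙 _, (h.lift x₁ x₂ hx).left, inferInstance, inferInstance,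
    by rw [← Over.comp_left, h.lift_fst, Category.id_comp],
    by rw [← Over.comp_left, h.lift_snd, Category.id_comp]⟩

theorem orbit (hinv : GIT.IsInvariant a q) (hrel : LocRel a q) :
    Function.Surjective (GIT.PsiY a q hinv).base := by
  intro z
  let P := pullback q.left q.left
  let ζ := P.fromSpecResidueField z
  let T : Over S := Over.mk (ζ ≫ pullback.fst q.left q.left ≫ X.hom)
  let x₁ : T ⟶ X := Over.homMk (ζ ≫ pullback.fst q.left q.left) (Category.assoc _ _ _)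
  let x₂ : T ⟶ X := Over.homMk (ζ ≫ pullback.snd q.left q.left) (by
    change (ζ ≫ pullback.snd q.left q.left) ≫ X.hom = ζ ≫ pullback.fst q.left q.left ≫ X.hom
    rw [← Over.w q, pullback.condition_assoc, Category.assoc])
  have hx : x₁ ≫ q = x₂ ≫ q := by
    ext1
    simp [x₁, x₂, pullback.condition]
  obtain ⟨Z, g, r, -, hg, h1, h2⟩ := hrel x₁ x₂ hx
  have hr : r ≫ GIT.PsiY a q hinv = g ≫ ζ := by
    unfold GIT.PsiY
    apply pullback.hom_ext
    · rw [Category.assoc, pullback.lift_fst, h1, Category.assoc]; rfl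
    · rw [Category.assoc, pullback.lift_snd, h2, Category.assoc]; rfl
  obtain ⟨w, hw⟩ := g.surjective (IsLocalRing.closedPoint (P.residueField z))
  refine ⟨r w, ?_⟩
  rw [← Scheme.Hom.comp_apply, hr, Scheme.Hom.comp_apply, hw]
  exact Scheme.fromSpecResidueField_apply z _

/-- invariant functions agree at two points with the same image -/
theorem comp_eq_of_inv (hrel : LocRel a q)
    (U : Y.left.Opens) (φ : (q.left ⁻¹ᵁ U).toScheme ⟶ Spec R0.{u})
    (hφ : a.act.left.resLE (q.left ⁻¹ᵁ U)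
        (a.act.left ⁻¹ᵁ (q.left ⁻¹ᵁ U) ⊓ (snd G X).left ⁻¹ᵁ (q.left ⁻¹ᵁ U)) inf_le_left ≫ φ =
      (snd G X).left.resLE (q.left ⁻¹ᵁ U)
        (a.act.left ⁻¹ᵁ (q.left ⁻¹ᵁ U) ⊓ (snd G X).left ⁻¹ᵁ (q.left ⁻¹ᵁ U)) inf_le_right ≫ φ)
    {T : Scheme.{u}} (a₀ b₀ : T ⟶ (q.left ⁻¹ᵁ U).toScheme)
    (h : a₀ ≫ (q.left ∣_ U) = b₀ ≫ (q.left ∣_ U)) : a₀ ≫ φ = b₀ ≫ φ := by
  have hq' : a₀ ≫ (q.left ⁻¹ᵁ U).ι ≫ q.left = b₀ ≫ (q.left ⁻¹ᵁ U).ι ≫ q.left := by
    simpa only [Category.assoc, morphismRestrict_ι] using congr($h ≫ U.ι)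
  let T' : Over S := Over.mk (a₀ ≫ (q.left ⁻¹ᵁ U).ι ≫ X.hom)
  let x₁ : T' ⟶ X := Over.homMk (a₀ ≫ (q.left ⁻¹ᵁ U).ι) (Category.assoc _ _ _)
  let x₂ : T' ⟶ X := Over.homMk (b₀ ≫ (q.left ⁻¹ᵁ U).ι) (by
    change (b₀ ≫ (q.left ⁻¹ᵁ U).ι) ≫ X.hom = a₀ ≫ (q.left ⁻¹ᵁ U).ι ≫ X.hom
    rw [← Over.w q, reassoc_of% hq', Category.assoc])
  obtain ⟨Z, g, r, hgf, hgs, h1, h2⟩ := hrel x₁ x₂
      (Over.OverMorphism.ext (by simpa [x₁, x₂] using hq'))
  have h1' : r ≫ a.act.left = g ≫ a₀ ≫ (q.left ⁻¹ᵁ U).ι := h1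
  have h2' : r ≫ (snd G X).left = g ≫ b₀ ≫ (q.left ⁻¹ᵁ U).ι := h2
  have hr : Set.range r ⊆ Set.range ((a.act.left ⁻¹ᵁ (q.left ⁻¹ᵁ U) ⊓ (snd G X).left ⁻¹ᵁ (q.left ⁻¹ᵁ U))).ι := by
    rw [Scheme.Opens.range_ι]
    rintro _ ⟨z, rfl⟩
    refine ⟨?_, ?_⟩
    · change (a.act.left (r z)) ∈ (q.left ⁻¹ᵁ U)
      rw [← Scheme.Hom.comp_apply, h1', Scheme.Hom.comp_apply, Scheme.Hom.comp_apply]
      exact (a₀ (g z)).2
    · change ((snd G X).left (r z)) ∈ (q.left ⁻¹ᵁ U)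
      rw [← Scheme.Hom.comp_apply, h2', Scheme.Hom.comp_apply, Scheme.Hom.comp_apply]
      exact (b₀ (g z)).2
  let r' := IsOpenImmersion.lift ((a.act.left ⁻¹ᵁ (q.left ⁻¹ᵁ U) ⊓ (snd G X).left ⁻¹ᵁ (q.left ⁻¹ᵁ U))).ι r hr
  have e1 : r' ≫ a.act.left.resLE (q.left ⁻¹ᵁ U) (a.act.left ⁻¹ᵁ (q.left ⁻¹ᵁ U) ⊓ (snd G X).left ⁻¹ᵁ (q.left ⁻¹ᵁ U)) inf_le_left = g ≫ a₀ := by
    rw [← cancel_mono (q.left ⁻¹ᵁ U).ι, Category.assoc, Scheme.Hom.resLE_comp_ι,
      IsOpenImmersion.lift_fac_assoc, h1', Category.assoc]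
  have e2 : r' ≫ (snd G X).left.resLE (q.left ⁻¹ᵁ U) (a.act.left ⁻¹ᵁ (q.left ⁻¹ᵁ U) ⊓ (snd G X).left ⁻¹ᵁ (q.left ⁻¹ᵁ U)) inf_le_right = g ≫ b₀ := by
    rw [← cancel_mono (q.left ⁻¹ᵁ U).ι, Category.assoc, Scheme.Hom.resLE_comp_ι,
      IsOpenImmersion.lift_fac_assoc, h2', Category.assoc]
  have := Flat.epi_of_flat_of_surjective g
  rw [← cancel_epi g, ← reassoc_of% e1, ← reassoc_of% e2, hφ]

theorem sections (hinv : GIT.IsInvariant a q) (hrel : LocRel a q) (U : Y.left.Opens)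
    {Z : Scheme.{u}} (c : Z ⟶ Y.left) (l : Z ⟶ X.left) (hl : l ≫ q.left = c) [Surjective c]
    [Flat c] [EffectiveEpi (c ∣_ U)] :
    Function.Injective (q.left.app U) ∧
      Set.range (q.left.app U) = {f | GIT.IsInvSection a q U f} := by
  set V := q.left ⁻¹ᵁ U with hV
  have e : c ⁻¹ᵁ U ≤ l ⁻¹ᵁ V := by rw [hV, ← Scheme.Hom.comp_preimage, hl]
  let l₀ := l.resLE V (c ⁻¹ᵁ U) e
  have hl₀ : l₀ ≫ (q.left ∣_ U) = c ∣_ U := by
    rw [← cancel_mono U.ι, Category.assoc, morphismRestrict_ι, Scheme.Hom.resLE_comp_ι_assoc,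
      morphismRestrict_ι, hl]
  have : Surjective (c ∣_ U) := IsZariskiLocalAtTarget.restrict ‹_› U
  have : Flat (c ∣_ U) := IsZariskiLocalAtTarget.restrict ‹_› U
  have happ : ∀ s, (q.left ∣_ U).appTop (res U s) = res V (q.left.app U s) := by
    intro s
    have h := res_natural q.left U V le_rfl s
    rw [Scheme.Hom.resLE_eq_morphismRestrict, ← Scheme.Hom.app_eq_appLE] at h
    exact h
  refine ⟨fun s₁ s₂ h => ?_, ?_⟩
  · obtain ⟨φ₁, hφ₁⟩ := ev_surjective (res U s₁)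
    obtain ⟨φ₂, hφ₂⟩ := ev_surjective (res U s₂)
    have h' : (q.left ∣_ U) ≫ φ₁ = (q.left ∣_ U) ≫ φ₂ :=
      ev_injective (by rw [ev_comp, ev_comp, hφ₁, hφ₂, happ, happ, h])
    have := Flat.epi_of_flat_of_surjective (c ∣_ U)
    have : φ₁ = φ₂ := by rw [← cancel_epi (c ∣_ U), ← hl₀, Category.assoc, Category.assoc, h']
    exact res_injective U (by rw [← hφ₁, ← hφ₂, this])
  refine Set.Subset.antisymm ?_ ?_
  · rintro _ ⟨s, rfl⟩
    change a.act.left.appLE _ _ _ (q.left.app U s) = (snd G X).left.appLE _ _ _ (q.left.app U s)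
    rw [Scheme.Hom.app_eq_appLE]
    rw [← CommRingCat.comp_apply, ← CommRingCat.comp_apply, Scheme.Hom.appLE_comp_appLE,
      Scheme.Hom.appLE_comp_appLE]
    exact congr($(appLE_congr_hom (GIT.IsInvariant.left hinv) U _ _ _) s)
  · intro f hf
    obtain ⟨φ, hφ⟩ := ev_surjective (res V f)
    have hφinv : a.act.left.resLE V (a.act.left ⁻¹ᵁ V ⊓ (snd G X).left ⁻¹ᵁ V) inf_le_left ≫ φ =
        (snd G X).left.resLE V (a.act.left ⁻¹ᵁ V ⊓ (snd G X).left ⁻¹ᵁ V) inf_le_right ≫ φ := by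
      apply ev_injective
      rw [ev_comp, ev_comp, hφ]
      refine (res_natural _ _ _ _ f).trans (Eq.trans ?_ (res_natural _ _ _ _ f).symm)
      exact congrArg _ hf
    let ψ : U.toScheme ⟶ Spec R0.{u} := EffectiveEpi.desc (c ∣_ U) (l₀ ≫ φ) fun g₁ g₂ hg => by
      rw [← Category.assoc, ← Category.assoc]
      refine comp_eq_of_inv a hrel U φ hφinv _ _ ?_
      rw [Category.assoc, Category.assoc, hl₀, hg]
    have hψ : (c ∣_ U) ≫ ψ = l₀ ≫ φ := EffectiveEpi.fac _ _ _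
    have hqψ : (q.left ∣_ U) ≫ ψ = φ := by
      have := Flat.epi_of_flat_of_surjective (pullback.fst (q.left ∣_ U) (c ∣_ U))
      rw [← cancel_epi (pullback.fst (q.left ∣_ U) (c ∣_ U)), pullback.condition_assoc, hψ,
        ← Category.assoc]
      refine comp_eq_of_inv a hrel U φ hφinv _ _ ?_
      rw [Category.assoc, hl₀, pullback.condition]
    obtain ⟨s, hs⟩ := (ConcreteCategory.bijective_of_isIso (res U)).2 (ev ψ)
    refine ⟨s, res_injective V ?_⟩
    rw [← happ, hs, ← ev_comp, hqψ, hφ]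

theorem isGeomQuot_of_isQuotient (hq : QuotSh.IsQuotient Scheme.fppfPrecoverage a.act (snd G X) q) :
    GIT.IsGeomQuot a q where
  inv := hq.1
  surj := (QuotShLib.fppf_of_isQuotient_surjective hq).surj
  orbit := orbit a hq.1 (locRel_of_isQuotient a hq)
  subm := by
    obtain ⟨Z, c, l, _, _, _, hl⟩ := QuotShLib.exists_cover_lift hq
    exact univSubmersive_of_lift c l hl
  sections U := by
    obtain ⟨Z, c, l, _, h2, _, hl⟩ := QuotShLib.exists_cover_lift hq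
    have : LocallyOfFinitePresentation (c ∣_ U) := IsZariskiLocalAtTarget.restrict h2 U
    have : Surjective (c ∣_ U) := IsZariskiLocalAtTarget.restrict ‹_› U
    have : Flat (c ∣_ U) := IsZariskiLocalAtTarget.restrict ‹_› U
    exact sections a hq.1 (locRel_of_isQuotient a hq) U c l hl

/-- A torsor with flat surjective quasi-compact map is a geometric quotient. -/
theorem isGeomQuot_of_isPullback (h : IsPullback a.act (snd G X) q q) [Flat q.left]
    [Surjective q.left] [QuasiCompact q.left] : GIT.IsGeomQuot a q where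
  inv := h.w
  surj := q.left.surjective
  orbit := orbit a h.w (locRel_of_isPullback a h)
  subm := fun X' Y' i₁ i₂ f' sq => by
    have : Flat f' := MorphismProperty.of_isPullback sq.flip ‹_›
    have : Surjective f' := MorphismProperty.of_isPullback sq.flip ‹_›
    have : QuasiCompact f' := MorphismProperty.of_isPullback sq.flip ‹_›
    exact Flat.isQuotientMap_of_surjective f'
  sections U := by
    have : QuasiCompact (q.left ∣_ U) := IsZariskiLocalAtTarget.restrict ‹_› U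
    have : Surjective (q.left ∣_ U) := IsZariskiLocalAtTarget.restrict ‹_› U
    have : Flat (q.left ∣_ U) := IsZariskiLocalAtTarget.restrict ‹_› U
    exact sections a h.w (locRel_of_isPullback a h) U q.left (𝟙 _) (Category.id_comp _)

end Groth.Agent.GeomQuot
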