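import Groth.Agent.GenBertini.Basic
import Groth.Agent.RegLocus.Smooth
import Groth.Agent.InfLift.SchemeSmallExt
import Mathlib.AlgebraicGeometry.Morphisms.Smooth
import Mathlib.AlgebraicGeometry.Morphisms.Separated

/-!
Generic smoothness of morphisms from smooth varieties in characteristic zero.
-/

set_option autoImplicit false
set_option linter.style.haveILetI false
set_option linter.unusedSectionVars false
set_option backward.isDefEq.respectTransparency false

universe u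

open CategoryTheory CategoryTheory.Limits AlgebraicGeometry TopologicalSpace

noncomputable section

namespace Groth.Agent.GrpAct

/-- A morphism from a smooth quasi-compact scheme over a field of characteristic zero to an integral
variety is smooth over a nonempty open subset of the target. -/
theorem exists_smooth_restrict {k : Type u} [Field k] [CharZero k] {W B : Scheme.{u}} (hW : W ⟶ Spec (CommRingCat.of k))
    (hB : B ⟶ Spec (CommRingCat.of k)) [Smooth hW] [IsIntegral B] [LocallyOfFiniteType hB]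
    (q : W ⟶ B) (hq : q ≫ hB = hW) [QuasiCompact q] :
    ∃ V : B.Opens, (V : Set B).Nonempty ∧ Smooth (q ∣_ V) := by
  classical
  haveI : LocallyOfFiniteType (q ≫ hB) := by rw [hq]; infer_instance
  haveI : LocallyOfFiniteType q := locallyOfFiniteType_of_comp q hB
  haveI : IsLocallyNoetherian B := LocallyOfFiniteType.isLocallyNoetherian hB
  haveI : LocallyOfFinitePresentation q := InfLift.lfp_of_lft q
  obtain ⟨_, ⟨U, hU, rfl⟩, hηU, -⟩ :=
    B.isBasis_affineOpens.exists_subset_of_mem_open (Set.mem_univ (genericPoint B)) isOpen_univ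
  haveI : Nonempty U := ⟨⟨_, hηU⟩⟩
  haveI : IsNoetherianRing Γ(B, U) := IsLocallyNoetherian.component_noetherian ⟨U, hU⟩
  let c : k →+* Γ(B, U) := ((Scheme.ΓSpecIso (CommRingCat.of k)).inv ≫ hB.appLE ⊤ U le_top).hom
  haveI : CharZero Γ(B, U) := charZero_of_injective_ringHom c.injective
  obtain ⟨s, hs⟩ := (isCompact_and_isOpen_iff_finite_and_eq_biUnion_affineOpens (U := ((q ⁻¹ᵁ U : W.Opens) : Set W))).1
    ⟨q.isCompact_preimage hU.isCompact, (q ⁻¹ᵁ U).2⟩
  have hle : ∀ i : s, (i.1.1 : W.Opens) ≤ q ⁻¹ᵁ U := fun i w hw => by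
    show w ∈ ((q ⁻¹ᵁ U : W.Opens) : Set W)
    exact hs.2.ge (Set.mem_iUnion₂.2 ⟨i.1, i.2, hw⟩)
  have key : ∀ i : s, ∃ g : Γ(B, U), g ≠ 0 ∧ ∀ w (hw : w ∈ i.1.1), q w ∈ B.basicOpen g → w ∈ q.smoothLocus := by
    intro i
    letI := (q.appLE U i.1.1 (hle i)).hom.toAlgebra
    haveI : Algebra.FiniteType Γ(B, U) Γ(W, i.1.1) := q.finiteType_appLE hU i.1.2 (hle i)
    haveI : Algebra.FinitePresentation Γ(B, U) Γ(W, i.1.1) := q.finitePresentation_appLE hU i.1.2 (hle i)
    let d : k →+* Γ(W, i.1.1) := ((Scheme.ΓSpecIso (CommRingCat.of k)).inv ≫ hW.appLE ⊤ i.1.1 le_top).hom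
    letI : Algebra k Γ(W, i.1.1) := d.toAlgebra
    haveI : Algebra.Smooth k Γ(W, i.1.1) := by
      rw [← RingHom.smooth_algebraMap]
      exact (RingHom.Smooth.propertyIsLocal.respectsIso.2 (hW.appLE ⊤ i.1.1 le_top).hom
        (Scheme.ΓSpecIso (CommRingCat.of k)).symm.commRingCatIsoToRingEquiv
        (hW.smooth_appLE (isAffineOpen_top _) i.1.2 le_top))
    haveI : IsRegularRing Γ(W, i.1.1) := RegLocus.isRegularRing_of_smooth k Γ(W, i.1.1)
    obtain ⟨g, hg0, hg⟩ := GenBertini.exists_smooth_away Γ(B, U) Γ(W, i.1.1)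
    refine ⟨g, hg0, fun w hw hqw => ?_⟩
    rw [Scheme.Hom.mem_smoothLocus, formallySmooth_stalkMap_iff U hU i.1.1 i.1.2 (hle i) hw]
    refine Algebra.basicOpen_subset_smoothLocus_iff.2 hg ?_
    rw [← i.1.2.fromSpec_preimage_basicOpen]
    show i.1.2.fromSpec (i.1.2.primeIdealOf ⟨w, hw⟩) ∈ W.basicOpen ((q.appLE U i.1.1 (hle i)).hom g)
    rw [i.1.2.fromSpec_primeIdealOf]
    show w ∈ W.basicOpen ((q.appLE U i.1.1 (hle i)).hom g)
    rw [Scheme.basicOpen_appLE]
    exact ⟨hw, hqw⟩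
  choose g hg0 hg using key
  haveI : Fintype s := hs.1.fintype
  refine ⟨B.basicOpen (∏ i : s, g i), ⟨genericPoint B, ?_⟩, ?_⟩
  · have hne : B.basicOpen (∏ i : s, g i) ≠ ⊥ := fun h =>
      Finset.prod_ne_zero_iff.2 (fun i _ => hg0 i) ((AlgebraicGeometry.basicOpen_eq_bot_iff _).1 h)
    obtain ⟨b, hb⟩ := Set.nonempty_iff_ne_empty.2 (fun h => hne (SetLike.coe_injective (h.trans Opens.coe_bot.symm)))
    exact ((genericPoint_spec B).specializes (Set.mem_univ b)).mem_open (B.basicOpen _).2 hb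
  · rw [← Scheme.Hom.smoothLocus_eq_top_iff, ← top_le_iff]
    rintro ⟨w, hw⟩ -
    have h1 : w ∈ q.smoothLocus := by
      have hwU : w ∈ ((q ⁻¹ᵁ U : W.Opens) : Set W) := B.basicOpen_le _ hw
      rw [hs.2] at hwU
      obtain ⟨i, hi, hwi⟩ := Set.mem_iUnion₂.1 hwU
      refine hg ⟨i, hi⟩ w hwi ?_
      have hw' : q w ∈ B.basicOpen (∏ j : s, g j) := hw
      rw [← Finset.mul_prod_erase _ _ (Finset.mem_univ (⟨i, hi⟩ : s)), Scheme.basicOpen_mul] at hw'
      exact hw'.1
    have h2 : (⟨w, hw⟩ : ↥(q ⁻¹ᵁ B.basicOpen (∏ i : s, g i))) ∈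
        (q ⁻¹ᵁ B.basicOpen (∏ i : s, g i)).ι ⁻¹ᵁ q.smoothLocus := h1
    rw [Scheme.Hom.preimage_smoothLocus_eq] at h2
    simp only [← morphismRestrict_ι] at h2
    rw [Scheme.Hom.mem_smoothLocus, Scheme.Hom.stalkMap_comp, CommRingCat.hom_comp] at h2
    rw [Scheme.Hom.mem_smoothLocus]
    exact (RingHom.FormallySmooth.respectsIso.cancel_left_isIso _ _).1 h2

end Groth.Agent.GrpAct
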