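import Groth.Agent.GrpAct.OrbitSmooth
import Mathlib.AlgebraicGeometry.Morphisms.Descent

/-!
Kleiman transversality, smoothness part: the family of translates of a smooth map is smooth over a
homogeneous space.
-/

set_option autoImplicit false
set_option linter.unusedSectionVars false
set_option backward.isDefEq.respectTransparency false

universe u

open CategoryTheory CategoryTheory.Limits MonoidalCategory CartesianMonoidalCategory MonObj AlgebraicGeometry TopologicalSpace

noncomputable section

namespace Groth.Agent.GrpAct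

variable {k : Type u} [Field k] [IsAlgClosed k] [CharZero k] {G X : Over (Spec (CommRingCat.of k))} [GrpObj G]
  (a : AlgGrp.Action G X) [IsIntegral G.left] [IsSeparated G.hom] [LocallyOfFiniteType G.hom] [QuasiCompact G.hom]
  [IsIntegral X.left] [IsSeparated X.hom] [LocallyOfFiniteType X.hom] [QuasiCompact X.hom]

/-- The family of translates of a map. -/
def translateFamily {Y : Over (Spec (CommRingCat.of k))} (f : Y ⟶ X) : G ⊗ Y ⟶ X :=
  lift (fst G Y) (snd G Y ≫ f) ≫ a.act

omit [IsAlgClosed k] [CharZero k] in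
theorem comp_translateFamily {T Y : Over (Spec (CommRingCat.of k))} (f : Y ⟶ X) (s : T ⟶ G) (y : T ⟶ Y) :
    lift s y ≫ translateFamily a f = lift s (y ≫ f) ≫ a.act := by
  rw [translateFamily, comp_smul, lift_fst, lift_snd_assoc]

/-- Orbit maps of homogeneous spaces are surjective. -/
theorem surjective_orbitMap
    (htrans : ∀ y y' : 𝟙_ (Over (Spec (CommRingCat.of k))) ⟶ X,
      ∃ σ : 𝟙_ (Over (Spec (CommRingCat.of k))) ⟶ G, lift σ y ≫ a.act = y')
    (x : 𝟙_ (Over (Spec (CommRingCat.of k))) ⟶ X) : Surjective (a.orbitMap x).left := by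
  haveI := smooth_orbitMap a htrans x
  haveI : IsLocallyNoetherian X.left := LocallyOfFiniteType.isLocallyNoetherian X.hom
  haveI : JacobsonSpace X.left := LocallyOfFiniteType.jacobsonSpace X.hom
  refine ⟨fun z => ?_⟩
  by_contra hz
  obtain ⟨c, hc, hcc⟩ := nonempty_inter_closedPoints (Z := (Set.range (a.orbitMap x).left)ᶜ) ⟨z, hz⟩
    (a.orbitMap x).left.isOpenMap.isOpen_range.isClosed_compl.isLocallyClosed
  obtain ⟨y, hy⟩ := exists_pt_of_closed (Z := X) hcc
  obtain ⟨σ, hσ⟩ := htrans x y
  let t : (𝟙_ (Over (Spec (CommRingCat.of k)))).left := IsLocalRing.closedPoint k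
  have h1 : σ ≫ a.orbitMap x = y := by
    rw [AlgGrp.Action.orbitMap, comp_smul, Category.comp_id, comp_toUnit_assoc,
      toUnit_unique (toUnit _) (𝟙 _), Category.id_comp, hσ]
  refine hc ⟨σ.left t, ?_⟩
  rw [← hy t, ← h1, Over.comp_left]
  rfl

/-- The shear by a map to the group. -/
def shearBy {Q : Over (Spec (CommRingCat.of k))} (τ : Q ⟶ G) : G ⊗ Q ≅ G ⊗ Q where
  hom := lift (fst G Q * (snd G Q ≫ τ)) (snd G Q)
  inv := lift (fst G Q * (snd G Q ≫ τ)⁻¹) (snd G Q)
  hom_inv_id := by
    ext
    · rw [Category.assoc, lift_fst, MonObj.comp_mul, GrpObj.comp_inv, lift_fst, lift_snd_assoc,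
        mul_inv_cancel_right, Category.id_comp]
    · simp
  inv_hom_id := by
    ext
    · rw [Category.assoc, lift_fst, MonObj.comp_mul, lift_fst, lift_snd_assoc, inv_mul_cancel_right,
        Category.id_comp]
    · simp

/-- The pullback of `Y` along an orbit map. -/
def orbitPull (x : 𝟙_ (Over (Spec (CommRingCat.of k))) ⟶ X) {Y : Over (Spec (CommRingCat.of k))} (f : Y ⟶ X) :
    Over (Spec (CommRingCat.of k)) :=
  Over.mk (pullback.fst (a.orbitMap x).left f.left ≫ G.hom)

def orbitPullGrp (x : 𝟙_ (Over (Spec (CommRingCat.of k))) ⟶ X) {Y : Over (Spec (CommRingCat.of k))} (f : Y ⟶ X) :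
    orbitPull a x f ⟶ G :=
  Over.homMk (pullback.fst (a.orbitMap x).left f.left)

def orbitPullSrc (x : 𝟙_ (Over (Spec (CommRingCat.of k))) ⟶ X) {Y : Over (Spec (CommRingCat.of k))} (f : Y ⟶ X) :
    orbitPull a x f ⟶ Y :=
  Over.homMk (pullback.snd (a.orbitMap x).left f.left) (by
    simp only [orbitPull, Over.mk_hom]
    rw [← Over.w (a.orbitMap x), pullback.condition_assoc, Over.w])

omit [IsAlgClosed k] [CharZero k] in
theorem orbitPull_w (x : 𝟙_ (Over (Spec (CommRingCat.of k))) ⟶ X) {Y : Over (Spec (CommRingCat.of k))} (f : Y ⟶ X) :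
    orbitPullGrp a x f ≫ a.orbitMap x = orbitPullSrc a x f ≫ f := by
  ext1
  exact pullback.condition

omit [IsAlgClosed k] [CharZero k] in
theorem isPullback_translateFamily (x : 𝟙_ (Over (Spec (CommRingCat.of k))) ⟶ X)
    {Y : Over (Spec (CommRingCat.of k))} (f : Y ⟶ X) :
    IsPullback (lift (fst G (orbitPull a x f)) (snd G _ ≫ orbitPullSrc a x f))
      ((shearBy (orbitPullGrp a x f)).hom ≫ fst G _) (translateFamily a f) (a.orbitMap x) := by
  have hw : lift (fst G (orbitPull a x f)) (snd G _ ≫ orbitPullSrc a x f) ≫ translateFamily a f =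
      ((shearBy (orbitPullGrp a x f)).hom ≫ fst G _) ≫ a.orbitMap x := by
    rw [comp_translateFamily, Category.assoc, ← orbitPull_w]
    simp only [shearBy, lift_fst, AlgGrp.Action.orbitMap, comp_smul, Category.comp_id, comp_toUnit_assoc]
    rw [mul_smul]
  have hc : ∀ s : PullbackCone (translateFamily a f) (a.orbitMap x),
      ((s.fst ≫ fst G Y)⁻¹ * s.snd).left ≫ (a.orbitMap x).left = (s.fst ≫ snd G Y).left ≫ f.left := fun s => by
    rw [← Over.comp_left, ← Over.comp_left]
    congr 1
    have h := s.condition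
    rw [← lift_comp_fst_snd s.fst, comp_translateFamily] at h
    simp only [AlgGrp.Action.orbitMap, comp_smul, Category.comp_id, comp_toUnit_assoc] at h ⊢
    rw [mul_smul, ← h, ← mul_smul, inv_mul_cancel, one_smul', Category.assoc]
  let L : ∀ s : PullbackCone (translateFamily a f) (a.orbitMap x), s.pt ⟶ orbitPull a x f := fun s =>
    Over.homMk (pullback.lift ((s.fst ≫ fst G Y)⁻¹ * s.snd).left (s.fst ≫ snd G Y).left (hc s)) (by
      simp [orbitPull])
  have hL1 : ∀ s, L s ≫ orbitPullGrp a x f = (s.fst ≫ fst G Y)⁻¹ * s.snd := fun s => by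
    ext1
    simp [L, orbitPullGrp]
  have hL2 : ∀ s, L s ≫ orbitPullSrc a x f = s.fst ≫ snd G Y := fun s => by
    ext1
    simp [L, orbitPullSrc]
  refine ⟨⟨hw⟩, ⟨PullbackCone.IsLimit.mk hw (fun s => lift (s.fst ≫ fst G Y) (L s)) ?_ ?_ ?_⟩⟩
  · intro s
    rw [comp_lift, lift_fst, lift_snd_assoc, hL2, lift_comp_fst_snd]
  · intro s
    simp only [shearBy]
    rw [lift_fst, MonObj.comp_mul, lift_fst, lift_snd_assoc, hL1, mul_inv_cancel_left]
  · intro s m hm1 hm2
    have e1 : m ≫ fst G _ = s.fst ≫ fst G Y := by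
      rw [← hm1, Category.assoc, lift_fst]
    have e2 : m ≫ snd G _ ≫ orbitPullSrc a x f = s.fst ≫ snd G Y := by
      rw [← hm1, Category.assoc, lift_snd]
    have e3 : m ≫ snd G _ ≫ orbitPullGrp a x f = (s.fst ≫ fst G Y)⁻¹ * s.snd := by
      rw [← hm2, ← e1]
      simp only [shearBy, lift_fst, MonObj.comp_mul, inv_mul_cancel_left]
    apply CartesianMonoidalCategory.hom_ext
    · rw [e1, lift_fst]
    · rw [lift_snd]
      ext1
      apply pullback.hom_ext
      · have := congrArg Over.Hom.left (e3.trans (hL1 s).symm)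
        simpa [orbitPullGrp] using this
      · have := congrArg Over.Hom.left (e2.trans (hL2 s).symm)
        simpa [orbitPullSrc] using this

/-- The family of translates of a smooth scheme is smooth over the homogeneous space. -/
theorem smooth_translateFamily
    (htrans : ∀ y y' : 𝟙_ (Over (Spec (CommRingCat.of k))) ⟶ X,
      ∃ σ : 𝟙_ (Over (Spec (CommRingCat.of k))) ⟶ G, lift σ y ≫ a.act = y')
    {Y : Over (Spec (CommRingCat.of k))} [Smooth Y.hom] (f : Y ⟶ X) : Smooth (translateFamily a f).left := by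
  haveI : JacobsonSpace X.left := LocallyOfFiniteType.jacobsonSpace X.hom
  obtain ⟨c, -, hc⟩ := nonempty_inter_closedPoints (Z := (Set.univ : Set X.left)) Set.univ_nonempty
    isOpen_univ.isLocallyClosed
  obtain ⟨x, -⟩ := exists_pt_of_closed (Z := X) hc
  haveI hπ := smooth_orbitMap a htrans x
  haveI := surjective_orbitMap a htrans x
  haveI : LocallyOfFiniteType ((a.orbitMap x).left ≫ X.hom) := by rw [Over.w]; infer_instance
  haveI : QuasiCompact ((a.orbitMap x).left ≫ X.hom) := by rw [Over.w]; infer_instance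
  haveI : QuasiCompact (a.orbitMap x).left := QuasiCompact.of_comp (a.orbitMap x).left X.hom
  have hsq := (isPullback_translateFamily a x f).map (Over.forget _)
  haveI : Smooth (orbitPull a x f).hom := by
    rw [← Over.w (orbitPullSrc a x f)]
    haveI : Smooth (orbitPullSrc a x f).left := MorphismProperty.pullback_snd (P := @Smooth) _ _ hπ
    infer_instance
  refine MorphismProperty.of_isPullback_of_descendsAlong (P := @Smooth)
    (Q := @Surjective ⊓ @Flat ⊓ @QuasiCompact) hsq.flip
    ⟨⟨(inferInstance : Surjective (a.orbitMap x).left), (inferInstance : Flat (a.orbitMap x).left)⟩,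
      (inferInstance : QuasiCompact (a.orbitMap x).left)⟩ ?_
  show Smooth ((shearBy (orbitPullGrp a x f)).hom ≫ fst G _).left
  rw [Over.comp_left]
  haveI : IsIso (shearBy (orbitPullGrp a x f)).hom.left := ((Over.forget _).mapIso (shearBy (orbitPullGrp a x f))).isIso_hom
  haveI : Smooth (fst G (orbitPull a x f)).left := by
    rw [Over.fst_left]
    exact MorphismProperty.pullback_fst (P := @Smooth) _ _ inferInstance
  infer_instance

end Groth.Agent.GrpAct
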