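import Groth.Agent.GrpAct.Basic
import Groth.Agent.GrpField.Irreducible
import Mathlib.AlgebraicGeometry.Fiber

/-!
# Orbit maps of transitive actions over an algebraically closed field pull back dense opens to dense opens
-/

universe u

open CategoryTheory CategoryTheory.Limits MonoidalCategory CartesianMonoidalCategory MonObj AlgebraicGeometry

namespace Groth.Agent.GrpAct

open GrpField in
attribute [local instance] Over.grpObjMkPullbackSnd in
/-- Orbit maps of transitive actions pull back dense opens to dense sets. -/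
theorem dense_preimage_orbit {S : Scheme.{u}} {G X : Over S} [GrpObj G] (a : AlgGrp.Action G X)
    {K : Type u} [Field K] [IsAlgClosed K] (f : Spec (CommRingCat.of K) ⟶ S)
    [LocallyOfFiniteType (pullback.snd G.hom f)] [LocallyOfFiniteType (pullback.snd X.hom f)]
    (x : Over.mk f ⟶ X)
    (hsurj : Surjective (lift (lift (fst G (Over.mk f)) (snd G (Over.mk f) ≫ x) ≫ a.act) (snd G (Over.mk f))).left)
    {U : Set (X ⊗ Over.mk f).left} (hU : IsOpen U) (hU' : Dense U) :
    Dense ((lift (lift (fst G (Over.mk f)) (snd G (Over.mk f) ≫ x) ≫ a.act) (snd G (Over.mk f))).left ⁻¹' U) := by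
  let T := Over.mk f
  let o : G ⊗ T ⟶ X ⊗ T := lift (lift (fst G T) (snd G T ≫ x) ≫ a.act) (snd G T)
  let : GrpObj (Over.mk G.hom) := inferInstanceAs (GrpObj G)
  let G' : Over (Spec (CommRingCat.of K)) := Over.mk (pullback.snd G.hom f)
  let : GrpObj G' := Over.grpObjMkPullbackSnd (f := G.hom) (g := f)
  have : LocallyOfFiniteType G'.hom := inferInstanceAs (LocallyOfFiniteType (pullback.snd G.hom f))
  have : JacobsonSpace (G ⊗ T).left := LocallyOfFiniteType.jacobsonSpace (pullback.snd G.hom f)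
  have : IsLocallyNoetherian (X ⊗ T).left := LocallyOfFiniteType.isLocallyNoetherian (pullback.snd X.hom f)
  refine dense_iff_inter_open.2 fun W hW hWn => ?_
  by_contra hdis
  rw [Set.not_nonempty_iff_eq_empty] at hdis
  obtain ⟨w₀, hw₀⟩ := hWn
  have : Nonempty (X ⊗ T).left := ⟨o.left w₀⟩
  obtain ⟨W₁, hW₁, hW₁i⟩ := exists_irreducible_open (X ⊗ T).left
  have hgen := hW₁i.isGenericPoint_genericPoint_closure
  obtain ⟨γ, hγ⟩ := hsurj.surj hW₁i.genericPoint
  obtain ⟨Wγ, hWγ, hWγi, hγmem⟩ := exists_irreducible_nhd G' γ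
  obtain ⟨γ', hγ', hγ'c⟩ := nonempty_inter_closedPoints (X := (G ⊗ T).left) (Z := Wγ) ⟨γ, hγmem⟩
    hWγ.isLocallyClosed
  obtain ⟨w, hw, hwc⟩ := nonempty_inter_closedPoints (Z := W) ⟨w₀, hw₀⟩ hW.isLocallyClosed
  let pt : ∀ y : (G ⊗ T).left, y ∈ closedPoints (G ⊗ T).left → (T ⟶ G ⊗ T) := fun y hy =>
    Over.homMk (pointOfClosedPoint (pullback.snd G.hom f) y hy) (by
      change _ ≫ (G ⊗ T).hom = f
      rw [show (G ⊗ T).hom = pullback.snd G.hom f ≫ f from (Over.w (snd G T)).symm, ← Category.assoc,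
        pointOfClosedPoint_comp, Category.id_comp])
  have hpt : ∀ y hy t, (pt y hy).left t = y := fun y hy t => pointOfClosedPoint_apply _ y hy t
  have hptsnd : ∀ y hy, pt y hy ≫ snd G T = 𝟙 T := fun y hy => by
    apply Over.OverMorphism.ext
    exact pointOfClosedPoint_comp _ y hy
  let a₁ := pt w hwc ≫ fst G T
  let a₂ := pt γ' hγ'c ≫ fst G T
  let c : T ⟶ G := a₁ * a₂⁻¹
  let eG := trL c
  let eX : X ⊗ T ≅ X ⊗ T :=
    { hom := lift (lift (snd X T ≫ c) (fst X T) ≫ a.act) (snd X T)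
      inv := lift (lift (snd X T ≫ c⁻¹) (fst X T) ≫ a.act) (snd X T)
      hom_inv_id := by
        apply CartesianMonoidalCategory.hom_ext
        · simp [comp_smul, ← mul_smul, GrpObj.comp_inv, one_smul']
        · simp
      inv_hom_id := by
        apply CartesianMonoidalCategory.hom_ext
        · simp [comp_smul, ← mul_smul, GrpObj.comp_inv, one_smul']
        · simp }
  have hcomm : eG.hom ≫ o = o ≫ eX.hom := by
    apply CartesianMonoidalCategory.hom_ext
    · simp [eG, eX, o, trL, comp_smul, ← mul_smul]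
    · simp [eG, eX, o, trL]
  let t₀ : T.left := IsLocalRing.closedPoint K
  have hγw : (homeo eG) γ' = w := by
    have h1 : pt γ' hγ'c ≫ eG.hom = pt w hwc := by
      apply CartesianMonoidalCategory.hom_ext
      · simp [eG, trL, MonObj.comp_mul, reassoc_of% hptsnd, c, a₁, a₂]
      · simp [eG, trL, hptsnd]
    have h2 := congrArg (fun k : T ⟶ G ⊗ T => k.left t₀) h1
    simp only [Over.comp_left, Scheme.Hom.comp_apply, hpt] at h2
    exact h2
  have hcl : homeo eG γ ∈ closure W := by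
    rw [mem_closure_iff]
    intro O hO hγO
    have hi := hWγi.image (homeo eG) (homeo eG).continuous.continuousOn
    obtain ⟨z, -, hz1, hz2⟩ := hi.2 O W hO hW ⟨_, ⟨γ, hγmem, rfl⟩, hγO⟩ ⟨w, ⟨γ', hγ', hγw⟩, hw⟩
    exact ⟨z, hz1, hz2⟩
  have hsub : o.left '' W ⊆ Uᶜ := by
    rintro _ ⟨y, hy, rfl⟩ hyU
    exact Set.eq_empty_iff_forall_notMem.1 hdis y ⟨hy, hyU⟩
  have hη : homeo eX hW₁i.genericPoint ∈ Uᶜ := by
    refine hU.isClosed_compl.closure_subset_iff.2 hsub ?_
    rw [← hγ, homeo_apply, ← Scheme.Hom.comp_apply, ← Over.comp_left,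
      ← hcomm, Over.comp_left, Scheme.Hom.comp_apply]
    exact image_closure_subset_closure_image o.left.continuous ⟨_, hcl, rfl⟩
  have himg : homeo eX '' W₁ ⊆ Uᶜ := by
    rintro _ ⟨z, hz, rfl⟩
    refine hU.isClosed_compl.closure_subset_iff.2 (Set.singleton_subset_iff.2 hη) ?_
    rw [← Set.image_singleton]
    exact image_closure_subset_closure_image (homeo eX).continuous
      ⟨z, hgen.symm ▸ subset_closure hz, rfl⟩
  obtain ⟨z, hz1, hz2⟩ := hU'.inter_open_nonempty _ ((homeo eX).isOpenMap W₁ hW₁) (hW₁i.1.image _)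
  exact himg hz1 hz2

end Groth.Agent.GrpAct
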