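import Groth.Agent.GrpAct.Stabilizer
import Groth.Agent.GrpAct.OrbitSmooth
import Groth.Agent.GrpAct.OrbitFlat
import Groth.Agent.GenFree.Scheme
import Mathlib.AlgebraicGeometry.Morphisms.FlatDescent

/-! # An orbit map with closed orbit and proper stabiliser is universally closed -/

set_option autoImplicit false
set_option backward.isDefEq.respectTransparency false

universe u

open CategoryTheory CategoryTheory.Limits MonoidalCategory CartesianMonoidalCategory MonObj AlgebraicGeometry TopologicalSpace

namespace Groth.Agent.GrpAct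

/-- universal closedness from a flat model over a closed image -/
theorem universallyClosed_of_flat_model {G X G' Z : Scheme.{u}} (f : G ⟶ X) (g : G' ⟶ G) (j : Z ⟶ X)
    (f' : G' ⟶ Z) [IsClosedImmersion g] [Surjective g] [IsClosedImmersion j]
    (hw : g ≫ f = f' ≫ j) [Flat f'] [Surjective f'] [QuasiCompact f']
    [UniversallyClosed (pullback.snd f f)] : UniversallyClosed f := by
  let p := g ≫ f
  have e₁ : IsPullback (pullback.fst f' f') (pullback.snd f' f') p p := by
    have := IsPullback.of_hasPullback f' f'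
    refine ⟨⟨by simp only [p, hw]; rw [pullback.condition_assoc]⟩, ⟨PullbackCone.IsLimit.mk _
      (fun s => this.lift s.fst s.snd ?_) (fun s => this.lift_fst _ _ _) (fun s => this.lift_snd _ _ _)
      (fun s m h₁ h₂ => this.hom_ext (by rw [h₁, this.lift_fst]) (by rw [h₂, this.lift_snd]))⟩⟩
    have h := s.condition
    simp only [p, hw, ← Category.assoc] at h
    exact (cancel_mono j).mp h
  let r₂ := pullback.snd f p
  have : UniversallyClosed r₂ := by
    have e₂ : IsPullback (pullback.lift (pullback.fst f p) (pullback.snd f p ≫ g) (by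
        rw [Category.assoc]; exact pullback.condition)) r₂ (pullback.snd f f) g :=
      IsPullback.of_right (by rw [pullback.lift_fst]; exact IsPullback.of_hasPullback f p)
        (pullback.lift_snd _ _ _) (IsPullback.of_hasPullback f f)
    exact MorphismProperty.of_isPullback (P := @UniversallyClosed) e₂ ‹_›
  let c : pullback f' f' ⟶ pullback f p :=
    pullback.lift (pullback.fst f' f' ≫ g) (pullback.snd f' f') (by rw [Category.assoc]; exact e₁.w)
  have hc : IsPullback c (pullback.fst f' f') (pullback.fst f p) g :=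
    (IsPullback.of_right (by rw [pullback.lift_snd]; exact e₁.flip) (pullback.lift_fst _ _ _)
      (IsPullback.of_hasPullback f p).flip)
  have : IsClosedImmersion c := MorphismProperty.of_isPullback (P := @IsClosedImmersion) hc.flip ‹_›
  have hs : UniversallyClosed (pullback.snd f' f') := by
    rw [show pullback.snd f' f' = c ≫ r₂ from (pullback.lift_snd _ _ _).symm]
    infer_instance
  have : UniversallyClosed f' := MorphismProperty.of_pullback_snd_of_descendsAlong
    (Q := (@Surjective ⊓ @Flat ⊓ @QuasiCompact : MorphismProperty Scheme.{u}))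
    ⟨⟨‹_›, ‹_›⟩, ‹_›⟩ hs
  have : UniversallyClosed (g ≫ f) := hw ▸ inferInstance
  exact UniversallyClosed.of_comp_surjective g f

variable {k : Type u} [Field k] [IsAlgClosed k] {G X : Over (Spec (CommRingCat.of k))} [GrpObj G]
  [LocallyOfFiniteType G.hom] [QuasiCompact G.hom] [LocallyOfFiniteType X.hom] [QuasiCompact X.hom]
  (a : AlgGrp.Action G X) (x : 𝟙_ (Over (Spec (CommRingCat.of k))) ⟶ X)

/-- A closed orbit with proper kernel pair has a universally closed orbit map. -/
theorem universallyClosed_orbitMap (hcl : IsClosed (Set.range (a.orbitMap x).left.base))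
    (hk : UniversallyClosed (pullback.snd (a.orbitMap x).left (a.orbitMap x).left)) :
    UniversallyClosed (a.orbitMap x).left := by
  let f := (a.orbitMap x).left
  have : IsLocallyNoetherian X.left := LocallyOfFiniteType.isLocallyNoetherian X.hom
  have : JacobsonSpace X.left := LocallyOfFiniteType.jacobsonSpace X.hom
  have : JacobsonSpace G.left := LocallyOfFiniteType.jacobsonSpace G.hom
  have : LocallyOfFiniteType (f ≫ X.hom) := by rw [Over.w]; infer_instance
  have : LocallyOfFiniteType f := locallyOfFiniteType_of_comp f X.hom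
  have : QuasiCompact (f ≫ X.hom) := by rw [Over.w]; infer_instance
  have : QuasiCompact f := QuasiCompact.of_comp f X.hom
  obtain ⟨Z, j, _, _, hjr⟩ := exists_reduced_subscheme hcl.isLocallyClosed
  have : IsClosedImmersion j := .of_isPreimmersion j (hjr ▸ hcl)
  obtain ⟨G', g, _, _, hgr⟩ := exists_reduced_subscheme
    (isClosed_univ : IsClosed (Set.univ : Set G.left)).isLocallyClosed
  have : IsClosedImmersion g := .of_isPreimmersion g (hgr ▸ isClosed_univ)
  have : Surjective g := ⟨Set.range_eq_univ.mp hgr⟩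
  obtain ⟨f', hf'⟩ := exists_factor j (g ≫ f) (by
    rw [hjr]
    rintro _ ⟨z, rfl⟩
    exact ⟨g z, rfl⟩)
  have : LocallyOfFiniteType (f' ≫ j) := hf' ▸ inferInstance
  have : LocallyOfFiniteType f' := locallyOfFiniteType_of_comp f' j
  have : QuasiCompact (f' ≫ j) := hf' ▸ inferInstance
  have : QuasiCompact f' := QuasiCompact.of_comp f' j
  have hsf : Surjective f' := ⟨fun z => by
    obtain ⟨g₀, hg₀⟩ : j z ∈ Set.range f := hjr ▸ Set.mem_range_self z
    obtain ⟨g₁, rfl⟩ := g.surjective g₀
    exact ⟨g₁, j.isEmbedding.injective (by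
      rw [← Scheme.Hom.comp_apply, hf', Scheme.Hom.comp_apply, hg₀])⟩⟩
  obtain ⟨U, hU, hUflat, -⟩ := GenFree.exists_dense_flat_fp f'
  obtain ⟨O, hO, hOU⟩ := j.isEmbedding.isInducing.isOpen_iff.mp U.2
  let V : X.left.Opens := ⟨O, hO⟩
  have hjV : j ⁻¹ᵁ V = U := TopologicalSpace.Opens.ext hOU
  have hV : UniversallyClosed (f ∣_ V) := by
    have h1 : IsPullback (pullback.fst (f ≫ 𝟙 _) V.ι) (pullback.snd (f ≫ 𝟙 _) V.ι) (f ≫ 𝟙 _) V.ι :=
      IsPullback.of_hasPullback _ _
    let fV := pullback.snd f V.ι
    let jV := pullback.snd j V.ι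
    let ι' := pullback.fst j V.ι
    let fV' := pullback.snd f' ι'
    let gV : pullback f' ι' ⟶ pullback f V.ι := pullback.lift (pullback.fst f' ι' ≫ g) (fV' ≫ jV) (by
      simp only [fV', jV, Category.assoc, ← hf', pullback.condition_assoc]
      congr 1
      exact pullback.condition)
    have hg : IsPullback (pullback.fst f' ι') gV g (pullback.fst f V.ι) := by
      have hbig : IsPullback (pullback.fst f' ι') (fV' ≫ jV) (f' ≫ j) V.ι :=
        (IsPullback.of_hasPullback f' ι').paste_vert (IsPullback.of_hasPullback j V.ι)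
      refine IsPullback.of_bot ?_ (pullback.lift_fst _ _ _).symm (IsPullback.of_hasPullback f V.ι)
      rw [show gV ≫ pullback.snd f V.ι = fV' ≫ jV from pullback.lift_snd _ _ _, ← hf']
      exact hbig
    have : IsClosedImmersion gV := MorphismProperty.of_isPullback (P := @IsClosedImmersion) hg ‹_›
    have : Surjective gV := MorphismProperty.of_isPullback (P := @Surjective) hg ‹_›
    have : IsClosedImmersion jV := MorphismProperty.pullback_snd (P := @IsClosedImmersion) _ _ ‹_›
    have : Surjective fV' := MorphismProperty.pullback_snd (P := @Surjective) _ _ ‹_›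
    have : QuasiCompact fV' := MorphismProperty.pullback_snd (P := @QuasiCompact) _ _ ‹_›
    have hr : ι'.opensRange = U := by
      refine TopologicalSpace.Opens.ext ?_
      rw [← hjV]
      show Set.range (pullback.fst j V.ι) = j ⁻¹' (V : Set X.left)
      rw [Scheme.Pullback.range_fst, Scheme.Opens.range_ι]
    have : Flat fV' := by
      refine (MorphismProperty.arrow_mk_iso_iff @Flat (morphismRestrictOpensRange f' ι')).mp ?_
      rw [hr]
      exact hUflat
    have hkV : UniversallyClosed (pullback.snd fV fV) := by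
      have hA : IsPullback (pullback.fst fV fV ≫ pullback.fst f V.ι) (pullback.snd fV fV) f
          (fV ≫ V.ι) :=
        (IsPullback.of_hasPullback fV fV).paste_horiz (IsPullback.of_hasPullback f V.ι)
      have e : fV ≫ V.ι = pullback.fst f V.ι ≫ f := pullback.condition.symm
      rw [e] at hA
      let l : pullback fV fV ⟶ pullback f f :=
        pullback.lift (pullback.fst fV fV ≫ pullback.fst f V.ι) (pullback.snd fV fV ≫ pullback.fst f V.ι)
          (by rw [Category.assoc (pullback.snd fV fV)]; exact hA.w)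
      have hl : IsPullback l (pullback.snd fV fV) (pullback.snd f f) (pullback.fst f V.ι) :=
        IsPullback.of_right (by rw [pullback.lift_fst]; exact hA) (pullback.lift_snd _ _ _)
          (IsPullback.of_hasPullback f f)
      exact MorphismProperty.of_isPullback (P := @UniversallyClosed) hl hk
    have := universallyClosed_of_flat_model fV gV jV fV' (pullback.lift_snd _ _ _)
    exact (MorphismProperty.arrow_mk_iso_iff @UniversallyClosed (morphismRestrictOpensRange f V.ι)).mpr
      this |> fun h => by rwa [Scheme.Opens.opensRange_ι] at h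
  let 𝒯 := {W : X.left.Opens // UniversallyClosed (f ∣_ W)}
  refine (IsZariskiLocalAtTarget.iff_of_iSup_eq_top (P := @UniversallyClosed) (fun W : 𝒯 => W.1) ?_).mpr fun W => W.2
  rw [eq_top_iff]
  rintro y -
  rw [TopologicalSpace.Opens.mem_iSup]
  by_cases hy : y ∈ Set.range f
  swap
  · refine ⟨⟨⟨(Set.range f)ᶜ, hcl.isOpen_compl⟩, ?_⟩, hy⟩
    have : IsEmpty ↥(f ⁻¹ᵁ ⟨(Set.range f)ᶜ, hcl.isOpen_compl⟩).toScheme := ⟨fun w => w.2 ⟨_, rfl⟩⟩
    infer_instance
  -- a closed point of the orbit specialising `y`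
  obtain ⟨z, hz₁, hz₂⟩ := nonempty_inter_closedPoints (Z := closure {y}) ⟨y, subset_closure rfl⟩
    isClosed_closure.isLocallyClosed
  have hzr : z ∈ Set.range f := closure_minimal (by simpa using hy) hcl hz₁
  obtain ⟨g₁, hg₁, hg₁'⟩ : ∃ g₁, f g₁ = z ∧ IsClosed ({g₁} : Set G.left) := by
    obtain ⟨g₁, hm, hc⟩ := nonempty_inter_closedPoints (Z := f ⁻¹' {z})
      (by obtain ⟨w, hw⟩ := hzr; exact ⟨w, hw⟩) ((hz₂ : IsClosed {z}).preimage f.continuous).isLocallyClosed
    exact ⟨g₁, hm, hc⟩
  have hne : ((U : Set Z)).Nonempty := by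
    have : Nonempty Z := by
      obtain ⟨w, hw⟩ := hy
      obtain ⟨w', rfl⟩ := g.surjective w
      exact ⟨f' w'⟩
    exact hU.nonempty
  obtain ⟨g₀, hg₀, hg₀'⟩ : ∃ g₀, f g₀ ∈ V ∧ IsClosed ({g₀} : Set G.left) := by
    obtain ⟨u, hu⟩ := hne
    obtain ⟨w, hw⟩ : j u ∈ Set.range f := hjr ▸ Set.mem_range_self u
    obtain ⟨g₀, hm, hc⟩ := nonempty_inter_closedPoints (Z := f ⁻¹' (V : Set X.left))
      ⟨w, by rw [Set.mem_preimage, hw]; rw [← hjV] at hu; exact hu⟩ (V.2.preimage f.continuous).isLocallyClosed
    exact ⟨g₀, hm, hc⟩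
  obtain ⟨p₁, hp₁⟩ := exists_pt_of_closed hg₁'
  obtain ⟨p₀, hp₀⟩ := exists_pt_of_closed hg₀'
  let σ := p₁ * p₀⁻¹
  let τ := (Over.forget _).mapIso (actIso a σ)
  let L := (Over.forget _).mapIso (ltrIso (G := G) σ)
  have hτ : L.hom ≫ f = f ≫ τ.hom := congrArg (fun h : G ⟶ X => h.left) (ltrIso_orbitMap a σ x)
  have hmove : τ.hom (f g₀) = z := by
    have e : p₀ ≫ (ltrIso (G := G) σ).hom = p₁ := by
      simp only [ltrIso, MonObj.comp_mul, Category.comp_id, comp_toUnit_assoc, σ]
      rw [toUnit_unique (toUnit _) (𝟙 _), Category.id_comp, Category.id_comp, _root_.mul_assoc, inv_mul_cancel, _root_.mul_one]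
    let t := IsLocalRing.closedPoint k
    have e' : p₀.left ≫ L.hom = p₁.left := congrArg (fun h : 𝟙_ _ ⟶ G => h.left) e
    have e1 : τ.hom (f g₀) = f (L.hom g₀) :=
      ((Scheme.Hom.comp_apply f τ.hom g₀).symm.trans congr($(hτ.symm) g₀)).trans (Scheme.Hom.comp_apply L.hom f g₀)
    have e2 : L.hom g₀ = g₁ := by
      rw [← hp₀ t, ← hp₁ t]
      exact (Scheme.Hom.comp_apply p₀.left L.hom t).symm.trans congr($e' t)
    rw [e1, e2, hg₁]
  refine ⟨⟨τ.inv ⁻¹ᵁ V, ?_⟩, ?_⟩
  · let W := τ.inv ⁻¹ᵁ V
    have hτ' : L.inv ≫ f = f ≫ τ.inv := by rw [Iso.inv_comp_eq, reassoc_of% hτ, τ.hom_inv_id]; exact (Category.comp_id f).symm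
    have hbig : IsPullback (pullback.fst f W.ι ≫ L.inv) (pullback.snd f W.ι) f ((τ.inv ∣_ V) ≫ V.ι) := by
      rw [morphismRestrict_ι]
      exact (IsPullback.of_hasPullback f W.ι).paste_horiz (IsPullback.of_horiz_isIso ⟨hτ'⟩)
    let l : pullback f W.ι ⟶ pullback f V.ι :=
      pullback.lift (pullback.fst f W.ι ≫ L.inv) (pullback.snd f W.ι ≫ (τ.inv ∣_ V))
        (hbig.w.trans (Category.assoc _ _ _).symm)
    have hl : IsPullback l (pullback.snd f W.ι) (pullback.snd f V.ι) (τ.inv ∣_ V) :=
      IsPullback.of_right (by rw [pullback.lift_fst]; exact hbig) (pullback.lift_snd _ _ _)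
        (IsPullback.of_hasPullback f V.ι)
    have hV' : UniversallyClosed (pullback.snd f V.ι) :=
      (MorphismProperty.arrow_mk_iso_iff @UniversallyClosed (morphismRestrictOpensRange f V.ι)).mp
        (by rw [Scheme.Opens.opensRange_ι]; exact hV)
    have := (MorphismProperty.arrow_mk_iso_iff @UniversallyClosed (morphismRestrictOpensRange f W.ι)).mpr
      (MorphismProperty.of_isPullback (P := @UniversallyClosed) hl hV')
    rwa [Scheme.Opens.opensRange_ι] at this
  · have hzy : y ⤳ z := specializes_iff_mem_closure.mpr hz₁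
    refine hzy.mem_open (τ.inv ⁻¹ᵁ V).2 ?_
    show τ.inv z ∈ V
    rw [← hmove, ← Scheme.Hom.comp_apply, τ.hom_inv_id]
    exact hg₀

end Groth.Agent.GrpAct
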