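import Groth.Prelude.Def_ActBC
import Groth.Agent.GrpAct.Basic
import Groth.Agent.GrpComp.HomogTop
import Mathlib.AlgebraicGeometry.AlgClosed.Basic
import Mathlib.AlgebraicGeometry.Fiber
import Mathlib.FieldTheory.IsAlgClosed.AlgebraicClosure

/-!
# Moving points of homogeneous fibres into open sets

No finiteness is assumed on the homogeneous space.
-/

set_option autoImplicit false
set_option linter.style.haveILetI false
universe u
open CategoryTheory CategoryTheory.Limits MonoidalCategory CartesianMonoidalCategory MonObj AlgebraicGeometry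
open Groth.Agent.GrpComp

namespace Groth.Agent.GrpAct

/-- An open set meeting all components is hit by every orbit map over a dense open set of group elements. -/
theorem dense_orbit_preimage {k : Type u} [Field k] [IsAlgClosed k] {G X : Over (Spec (CommRingCat.of k))}
    [GrpObj G] [LocallyOfFiniteType G.hom] (a : AlgGrp.Action G X) (hΦ : Surjective (lift a.act (snd G X)).left)
    (x : 𝟙_ (Over (Spec (CommRingCat.of k))) ⟶ X) {U : Set X.left} (hU : IsOpen U)
    (hmeet : ∀ y : X.left, (irreducibleComponent y ∩ U).Nonempty) :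
    Dense ((a.orbitMap x).left ⁻¹' U) := by
  haveI : JacobsonSpace G.left := LocallyOfFiniteType.jacobsonSpace G.hom
  refine dense_iff_inter_open.2 fun O hO hOn => ?_
  obtain ⟨g₀, hg₀, hg₀c⟩ := nonempty_inter_closedPoints (Z := O) hOn hO.isLocallyClosed
  let E := 𝟙_ (Over (Spec (CommRingCat.of k)))
  let g : E ⟶ G := Over.homMk (pointOfClosedPoint G.hom g₀ hg₀c) (pointOfClosedPoint_comp _ _ _)
  have hg : ∀ t, g.left t = g₀ := fun t => pointOfClosedPoint_apply _ _ hg₀c t
  obtain ⟨D⟩ := nonempty_idComp G
  letI := D.grp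
  haveI := D.hom
  haveI := D.geom
  haveI : DiscreteTopology (Spec (CommRingCat.of k)) := inferInstanceAs (DiscreteTopology (PrimeSpectrum k))
  haveI : IrreducibleSpace (Spec (CommRingCat.of k)) := inferInstanceAs (IrreducibleSpace (PrimeSpectrum k))
  haveI : IrreducibleSpace D.obj.left :=
    GeometricallyIrreducible.irreducibleSpace D.obj.hom (fun V _ => isOpen_discrete _)
  let u : E ⟶ X := g ≫ a.orbitMap x
  obtain ⟨t₀⟩ : Nonempty E.left := inferInstanceAs (Nonempty (PrimeSpectrum k))
  obtain ⟨y, hy, hyU⟩ := hmeet (u.left t₀)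
  rw [component_eq_range_psi a hΦ D (g := 𝟙 _) u t₀] at hy
  obtain ⟨q, rfl⟩ := hy
  let r : D.obj ⟶ G := D.incl * (toUnit D.obj ≫ g)
  have key : psi a D u = fst D.obj E ≫ r ≫ a.orbitMap x := by
    simp only [psi, u, r, AlgGrp.Action.orbitMap, comp_smul, MonObj.comp_mul, Category.comp_id]
    rw [← mul_smul]
    congr 1
    apply CartesianMonoidalCategory.hom_ext <;> simp
    rw [toUnit_unique (snd D.obj E) (toUnit _)]
  have h1 : ((r ≫ a.orbitMap x).left ⁻¹' U).Nonempty := ⟨(fst D.obj E).left q, by
    rw [key] at hyU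
    exact hyU⟩
  have h2 : (r.left ⁻¹' O).Nonempty := ⟨η[D.obj].left t₀, by
    rw [Set.mem_preimage, ← Scheme.Hom.comp_apply, ← Over.comp_left,
      show η[D.obj] ≫ r = g by
        simp only [r, MonObj.comp_mul]
        rw [IsMonHom.one_hom, ← Category.assoc, toUnit_unique (η[D.obj] ≫ toUnit D.obj) (𝟙 _), Category.id_comp]
        rw [show η[G] = (1 : E ⟶ G) by rw [Hom.one_def, toUnit_unique (toUnit E) (𝟙 E), Category.id_comp]]
        exact one_mul g,
      hg]
    exact hg₀⟩
  obtain ⟨d, hd1, hd2⟩ := nonempty_preirreducible_inter (hO.preimage r.left.continuous)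
    (hU.preimage (r ≫ a.orbitMap x).left.continuous) h2 h1
  exact ⟨r.left d, hd1, hd2⟩

/-- Transitivity is stable under base change. -/
theorem surjective_bc {S S' : Scheme.{u}} {G X : Over S} [GrpObj G] (a : AlgGrp.Action G X)
    (hΦ : Surjective (lift a.act (snd G X)).left) (f : S' ⟶ S) :
    Surjective (lift (a.bc f).act (snd (Red.bc f G) (Red.bc f X))).left := by
  have hF : ∀ {A B : Over S} (m : A ⟶ B), Surjective m.left → Surjective ((Over.pullback f).map m).left := by
    intro A B m hm
    have e : ((Over.pullback f).map m).left =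
        pullback.map A.hom f B.hom f m.left (𝟙 S') (𝟙 S) (by simp) (by simp) := by
      apply pullback.hom_ext
      · exact (pullback.lift_fst _ _ _).trans (pullback.lift_fst _ _ _).symm
      · exact (pullback.lift_snd _ _ _).trans ((pullback.lift_snd _ _ _).trans (Category.comp_id _)).symm
    constructor
    rw [← Set.range_eq_univ]
    refine Set.eq_univ_of_forall fun z => ?_
    show z ∈ Set.range ((Over.pullback f).map m).left
    rw [e, Scheme.Pullback.range_map]
    exact ⟨hm.surj _, ⟨_, rfl⟩⟩
  have e : lift (a.bc f).act (snd (Red.bc f G) (Red.bc f X)) ≫ Functor.LaxMonoidal.μ (Over.pullback f) X X =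
      Functor.LaxMonoidal.μ (Over.pullback f) G X ≫ (Over.pullback f).map (lift a.act (snd G X)) := by
    rw [← cancel_mono (Functor.OplaxMonoidal.δ (Over.pullback f) X X), Category.assoc,
      Functor.Monoidal.μ_δ, Category.comp_id]
    apply CartesianMonoidalCategory.hom_ext
    · simp [← Functor.map_comp]
    · simp [← Functor.map_comp]
  haveI := hF _ hΦ
  haveI : IsIso (Functor.LaxMonoidal.μ (Over.pullback f) G X).left :=
    inferInstanceAs (IsIso ((Over.forget _).map (Functor.LaxMonoidal.μ (Over.pullback f) G X)))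
  haveI : IsIso (Functor.LaxMonoidal.μ (Over.pullback f) X X).left :=
    inferInstanceAs (IsIso ((Over.forget _).map (Functor.LaxMonoidal.μ (Over.pullback f) X X)))
  have e' := congrArg (fun m => m.left) e
  simp only [Over.comp_left] at e'
  rw [(IsIso.eq_comp_inv (Functor.LaxMonoidal.μ (Over.pullback f) X X).left).mpr e']
  infer_instance

variable {S : Scheme.{u}} {G X : Over S} [GrpObj G]

/-- A connected quasi-separated homogeneous fibre is irreducible. -/
theorem exists_fibre_generic (a : AlgGrp.Action G X) (hΦ : Surjective (lift a.act (snd G X)).left) (s : S)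
    (hqs : QuasiSeparatedSpace ↥(X.hom.base ⁻¹' {s})) (hconn : _root_.IsPreconnected (X.hom.base ⁻¹' {s}))
    (hne : (X.hom.base ⁻¹' {s}).Nonempty) :
    ∃ ξ : X.left, X.hom ξ = s ∧ ∀ v : X.left, X.hom v = s → ξ ⤳ v := by
  let f : Spec (CommRingCat.of (S.residueField s : Type u)) ⟶ S := S.fromSpecResidueField s
  letI := Red.grpObj_bc f G
  let X' := Red.bc f X
  let p : X'.left ⟶ X.left := pullback.fst X.hom f
  haveI : QuasiSeparatedSpace X'.left :=
    QuasiSeparatedSpace.of_isOpenEmbedding (f := X.hom.fiberHomeo s) (X.hom.fiberHomeo s).isOpenEmbedding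
  haveI : PreconnectedSpace X'.left := by
    haveI : PreconnectedSpace ↥(X.hom.base ⁻¹' {s}) := isPreconnected_iff_preconnectedSpace.mp hconn
    exact DenseRange.preconnectedSpace (X.hom.fiberHomeo s).symm.surjective.denseRange (X.hom.fiberHomeo s).symm.continuous
  have hr : Set.range p = X.hom.base ⁻¹' {s} := X.hom.range_fiberι s
  obtain ⟨x, hx⟩ := hne
  obtain ⟨x', -⟩ := (show x ∈ Set.range p by rw [hr]; exact hx)
  have h := connectedComponent_eq_homog (a.bc f) (surjective_bc a hΦ f) x'
  rw [PreconnectedSpace.connectedComponent_eq_univ] at h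
  have hI : IsIrreducible (Set.univ : Set X'.left) := by rw [h]; exact isIrreducible_irreducibleComponent
  refine ⟨p hI.genericPoint, (hr.subset ⟨_, rfl⟩ : _), fun v hv => ?_⟩
  obtain ⟨v', rfl⟩ := (show v ∈ Set.range p by rw [hr]; exact hv)
  exact ((hI.isGenericPoint_genericPoint isClosed_univ).specializes (Set.mem_univ v')).map p.continuous

/-- Two points of a homogeneous fibre are moved simultaneously into an open set containing the generic
point of the fibre by an element of a given open set. -/
theorem exists_pt_translate [LocallyOfFinitePresentation G.hom] (a : AlgGrp.Action G X)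
    (hΦ : Surjective (lift a.act (snd G X)).left)
    {K : Type u} [Field K] [IsAlgClosed K] (f : Spec (CommRingCat.of K) ⟶ S)
    (t : (Over.mk f).left) (O : G.left.Opens) {e : Over.mk f ⟶ G} (he : e.left t ∈ O)
    (U : X.left.Opens) {ξ : X.left} (hξU : ξ ∈ U)
    (hξm : X.hom ξ = (Over.mk f).hom t) (hξ : ∀ v : X.left, X.hom v = (Over.mk f).hom t → ξ ⤳ v)
    (x y : Over.mk f ⟶ X) :
    ∃ g : Over.mk f ⟶ G, g.left t ∈ O ∧
      (lift g x ≫ a.act).left t ∈ U ∧
      (lift g y ≫ a.act).left t ∈ U := by
  let E := 𝟙_ (Over (Spec (CommRingCat.of K)))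
  let i : (Over.map f).obj E ≅ Over.mk f := Over.isoMk (Iso.refl _) (by simp [E])
  let G' := Red.bc f G
  let X' := Red.bc f X
  let he' := fun (Y : Over S) => (Over.mapPullbackAdj f).homEquiv E Y
  let up := fun (Y : Over S) (m : Over.mk f ⟶ Y) => he' Y (i.hom ≫ m)
  have hup : ∀ (Y : Over S) (m : Over.mk f ⟶ Y), (up Y m).left ≫ pullback.fst Y.hom f = m.left :=
    fun Y m => by
      have h := congrArg (fun q => q.left) ((he' Y).symm_apply_apply (i.hom ≫ m))
      simp only [he', Adjunction.homEquiv_counit] at h
      refine h.trans ?_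
      simp [i]
  haveI : LocallyOfFiniteType G'.hom := inferInstanceAs (LocallyOfFiniteType (pullback.snd G.hom f))
  let U' : Set X'.left := pullback.fst X.hom f ⁻¹' U
  have hmeet : ∀ w : X'.left, (irreducibleComponent w ∩ U').Nonempty := by
    intro w
    let s := f (IsLocalRing.closedPoint K)
    have hs : ∀ v : X'.left, X.hom (pullback.fst X.hom f v) = (Over.mk f).hom t := fun v => by
      rw [← Scheme.Hom.comp_apply, pullback.condition, Scheme.Hom.comp_apply]
      exact congrArg f (Subsingleton.elim (α := PrimeSpectrum K) _ _)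
    have hts : (Over.mk f).hom t = s := congrArg f (Subsingleton.elim (α := PrimeSpectrum K) _ _)
    let φ : Spec (CommRingCat.of K) ⟶ Spec (S.residueField s) := Spec.map (Scheme.descResidueField
      (Scheme.stalkClosedPointTo f))
    have hφ : φ ≫ S.fromSpecResidueField s = f :=
      Scheme.descResidueField_stalkClosedPointTo_fromSpecResidueField K S f
    let π : X'.left ⟶ X.hom.fiber s := pullback.lift (pullback.fst X.hom f) (pullback.snd X.hom f ≫ φ)
      (by rw [Category.assoc, hφ, pullback.condition])
    have hsq : IsPullback π (pullback.snd X.hom f) (X.hom.fiberToSpecResidueField s) φ := by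
      refine IsPullback.of_right ?_ (pullback.lift_snd _ _ _) (IsPullback.of_hasPullback _ _)
      refine (IsPullback.of_hasPullback X.hom f).of_iso (Iso.refl _) (Iso.refl _) (Iso.refl _) (Iso.refl _) ?_ ?_ ?_ ?_
      · exact (Category.comp_id _).trans ((Category.id_comp (π ≫ pullback.fst X.hom (S.fromSpecResidueField s))).trans
          (pullback.lift_fst _ _ _)).symm
      · exact (Category.comp_id _).trans (Category.id_comp _).symm
      · exact (Category.comp_id _).trans (Category.id_comp _).symm
      · exact (Category.comp_id _).trans (hφ.symm.trans (Category.id_comp _).symm)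
    haveI : Flat φ := inferInstance
    haveI : Flat π := MorphismProperty.of_isPullback hsq.flip ‹_›
    have hI : IsIrreducible (irreducibleComponent w) := isIrreducible_irreducibleComponent
    have hg := hI.closure_genericPoint isClosed_irreducibleComponent
    refine ⟨hI.genericPoint, hg.le (subset_closure rfl), ?_⟩
    let v := pullback.fst X.hom f hI.genericPoint
    have hξv : ξ ⤳ v := hξ v (hs _)
    obtain ⟨ξ', hξ'⟩ : ξ ∈ Set.range (X.hom.fiberι s) := by
      rw [X.hom.range_fiberι, ← hts]; exact hξm
    have hπι : π ≫ X.hom.fiberι s = pullback.fst X.hom f := pullback.lift_fst _ _ _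
    have hπ : (X.hom.fiberι s) (π hI.genericPoint) = v := by
      rw [← Scheme.Hom.comp_apply, hπι]
    have hspec : ξ' ⤳ π hI.genericPoint := (X.hom.fiberι s).isEmbedding.isInducing.specializes_iff.mp (by
      rw [hξ', hπ]; exact hξv)
    obtain ⟨η', hη, hηξ⟩ := Flat.generalizingMap (f := π) hspec
    have : η' ⤳ hI.genericPoint := hη
    have heq : η' = hI.genericPoint := by
      have h3 : irreducibleComponent w ⊆ closure {η'} := by
        rw [← hg]
        exact closure_minimal (Set.singleton_subset_iff.mpr this.mem_closure) isClosed_closure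
      have h4 := eq_irreducibleComponent isIrreducible_singleton.closure.isPreirreducible h3
      exact (hI.isGenericPoint_genericPoint isClosed_irreducibleComponent).eq (h4 ▸ isGenericPoint_closure) |>.symm
    show v ∈ U
    rw [← hπ, ← heq, hηξ, hξ']
    exact hξU
  have hU' : IsOpen U' := U.2.preimage (pullback.fst X.hom f).continuous
  let O' : Set G'.left := pullback.fst G.hom f ⁻¹' O
  have hO' : IsOpen O' := O.2.preimage (pullback.fst G.hom f).continuous
  obtain ⟨t₀⟩ : Nonempty E.left := inferInstanceAs (Nonempty (PrimeSpectrum K))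
  have hsub : ∀ q : E.left, q = t := fun q => Subsingleton.elim (α := PrimeSpectrum K) _ _
  have hne : O'.Nonempty := ⟨(up G e).left t₀, by
    show pullback.fst G.hom f ((up G e).left t₀) ∈ O
    rw [← Scheme.Hom.comp_apply, hup, hsub t₀]
    exact he⟩
  have hd := fun m => dense_orbit_preimage (a.bc f) (surjective_bc a hΦ f) (up X m) hU' hmeet
  haveI : JacobsonSpace G'.left := LocallyOfFiniteType.jacobsonSpace G'.hom
  have hop := fun m => hU'.preimage ((a.bc f).orbitMap (up X m)).left.continuous
  obtain ⟨g₀, ⟨⟨hgO, hgx⟩, hgy⟩, hgc⟩ := nonempty_inter_closedPoints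
    (Z := (O' ∩ ((a.bc f).orbitMap (up X x)).left ⁻¹' U') ∩ ((a.bc f).orbitMap (up X y)).left ⁻¹' U')
    ((hd y).inter_open_nonempty _ (hO'.inter (hop x)) ((hd x).inter_open_nonempty _ hO' hne))
    ((hO'.inter (hop x)).inter (hop y)).isLocallyClosed
  let g' : E ⟶ G' := Over.homMk (pointOfClosedPoint G'.hom g₀ hgc) (pointOfClosedPoint_comp _ _ _)
  have hg' : ∀ t, g'.left t = g₀ := fun t => pointOfClosedPoint_apply _ _ hgc t
  let g : Over.mk f ⟶ G := i.inv ≫ (he' G).symm g'
  have hgg : up G g = g' := by simp [up, g]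
  have horb : ∀ m, up X (lift g m ≫ a.act) = g' ≫ (a.bc f).orbitMap (up X m) := fun m => by
    show he' X (i.hom ≫ lift g m ≫ a.act) = _
    rw [← Category.assoc, comp_lift]
    refine ((AlgGrp.Action.lift_homEquiv_bc_act f a (i.hom ≫ g) (i.hom ≫ m)).symm).trans ?_
    show lift (up G g) (up X m) ≫ _ = _
    rw [hgg, AlgGrp.Action.orbitMap, comp_lift_assoc, Category.comp_id, ← Category.assoc,
      toUnit_unique (g' ≫ toUnit G') (𝟙 E), Category.id_comp]
  refine ⟨g, ?_, ?_, ?_⟩
  · rw [← hup G g, Scheme.Hom.comp_apply, hgg, hg']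
    exact hgO
  · rw [← hup X, Scheme.Hom.comp_apply, horb, Over.comp_left, Scheme.Hom.comp_apply, hg']
    exact hgx
  · rw [← hup X, Scheme.Hom.comp_apply, horb, Over.comp_left, Scheme.Hom.comp_apply, hg']
    exact hgy

end Groth.Agent.GrpAct
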